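import Cfsg.Agent.DT.Defs

set_option autoImplicit false

namespace Cfsg.Agent.DT

variable {G : Type*} [Group G] [Finite G] {p q : ℕ} {x : G}

namespace Cop2Aux

omit [Finite G] in
theorem three_iff {X Y Z N : Subgroup G} (hX : X ≤ nor N) (hY : Y ≤ nor N) (hZ : Z ≤ nor N) :
    ⁅⁅X, Y⁆, Z⁆ ≤ N ↔
      ⁅⁅(X.subgroupOf (nor N)).map (QuotientGroup.mk' (N.subgroupOf (nor N))),
        (Y.subgroupOf (nor N)).map (QuotientGroup.mk' (N.subgroupOf (nor N)))⁆,
        (Z.subgroupOf (nor N)).map (QuotientGroup.mk' (N.subgroupOf (nor N)))⁆ = ⊥ := by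
  rw [← Subgroup.map_commutator, ← Subgroup.map_commutator, Subgroup.map_eq_bot_iff,
    QuotientGroup.ker_mk', ← Subgroup.comap_subtype (H := N), ← Subgroup.map_le_iff_le_comap,
    Subgroup.map_commutator, Subgroup.map_commutator, Subgroup.subgroupOf_map_subtype,
    Subgroup.subgroupOf_map_subtype, Subgroup.subgroupOf_map_subtype, inf_eq_left.mpr hX,
    inf_eq_left.mpr hY, inf_eq_left.mpr hZ]

theorem cen_of_normal {H : Type*} [Group H] [Finite H] (hq : q.Prime) (hH : IsPGroup q H)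
    (K : Subgroup H) [K.Normal] (hK : K ≠ ⊥) : ∃ v ∈ K, v ≠ 1 ∧ ∀ e : H, e * v * e⁻¹ = v := by
  haveI := Fact.mk hq
  have hd : q ∣ Nat.card K := by
    haveI := (Subgroup.nontrivial_iff_ne_bot K).mpr hK
    obtain ⟨n, hn0, hn⟩ := (hH.to_subgroup K).nontrivial_iff_card.mp inferInstance
    exact hn.symm ▸ dvd_pow_self _ (ne_of_gt hn0)
  obtain ⟨b, hb, hb1⟩ :=
    (hH.of_equiv ConjAct.toConjAct).exists_fixed_point_of_prime_dvd_card_of_fixed_point K hd
      (a := 1) (fun g => smul_one g)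
  refine ⟨b, b.2, fun h => hb1 (Subtype.ext h.symm), fun e => ?_⟩
  have := congrArg Subtype.val (hb (ConjAct.toConjAct e))
  simpa [ConjAct.Subgroup.val_conj_smul, ConjAct.smul_def] using this

omit [Finite G] in
theorem inv_pow_mul {c s : G} (h : c * s = s * c⁻¹) (k : ℕ) : c ^ k * s = s * (c ^ k)⁻¹ := by
  induction k with
  | zero => simp
  | succ k ih => rw [pow_succ', mul_assoc, ih, ← mul_assoc, h, mul_assoc, ← mul_inv_rev, ← pow_succ,
      ← pow_succ']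

omit [Finite G] in
theorem two_pow_mul {c s : G} (h : c * s = s * c⁻¹) (k : ℕ) :
    c ^ (k + k) * s = c ^ k * s * (c ^ k)⁻¹ := by
  rw [pow_add, mul_assoc, mul_assoc, ← inv_pow_mul h]

end Cop2Aux

/-- three subgroups lemma modulo `N`. -/
theorem three_mod {A B C N : Subgroup G} (hA : A ≤ nor N) (hB : B ≤ nor N) (hC : C ≤ nor N)
    (h1 : ⁅⁅A, B⁆, C⁆ ≤ N) (h2 : ⁅⁅B, C⁆, A⁆ ≤ N) : ⁅⁅C, A⁆, B⁆ ≤ N := by
  rw [Cop2Aux.three_iff hA hB hC] at h1
  rw [Cop2Aux.three_iff hB hC hA] at h2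
  rw [Cop2Aux.three_iff hC hA hB]
  exact Subgroup.commutator_commutator_eq_bot_of_rotate h1 h2

/-- a `q`-group `E` acting on the nontrivial `q`-section `Q/N` has a nontrivial fixed coset. -/
theorem fix_coset (hq : q.Prime) {E Q N : Subgroup G} (hE : IsPGroup q E) (hQ : IsPGroup q Q)
    (hNQ : N ≤ Q) (hne : N ≠ Q) (hQN : Q ≤ nor N) (hEQ : E ≤ nor Q) (hEN : E ≤ nor N) :
    ∃ v ∈ Q, v ∉ N ∧ ∀ e ∈ E, v * e * v⁻¹ * e⁻¹ ∈ N := by
  have hP : IsPGroup q (E ⊔ Q : Subgroup G) := hE.to_sup_of_normal_right' hQ hEQ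
  set P : Subgroup G := E ⊔ Q with hPd
  have hQP : Q ≤ P := le_sup_right
  have hEP : E ≤ P := le_sup_left
  haveI hN : (N.subgroupOf P).Normal :=
    (Subgroup.normal_subgroupOf_iff_le_normalizer (hNQ.trans hQP)).mpr (sup_le hEN hQN)
  haveI hQn : (Q.subgroupOf P).Normal :=
    (Subgroup.normal_subgroupOf_iff_le_normalizer hQP).mpr (sup_le hEQ Subgroup.le_normalizer)
  haveI : ((Q.subgroupOf P).map (QuotientGroup.mk' (N.subgroupOf P))).Normal :=
    hQn.map _ (QuotientGroup.mk'_surjective _)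
  obtain ⟨_, ⟨v, hv, rfl⟩, hv1, hc⟩ := Cop2Aux.cen_of_normal hq (hP.to_quotient (N.subgroupOf P))
    ((Q.subgroupOf P).map (QuotientGroup.mk' (N.subgroupOf P))) (by
      intro h
      rw [Subgroup.map_eq_bot_iff, QuotientGroup.ker_mk'] at h
      exact hne (le_antisymm hNQ fun g hg => h (x := ⟨g, hQP hg⟩) hg))
  refine ⟨v, hv, fun h => hv1 ((QuotientGroup.eq_one_iff v).mpr h), fun e he => ?_⟩
  have h1 := hc (QuotientGroup.mk' _ ⟨e, hEP he⟩)
  have h2 : QuotientGroup.mk' (N.subgroupOf P) (v * ⟨e, hEP he⟩ * v⁻¹ * (⟨e, hEP he⟩ : P)⁻¹) = 1 := by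
    rw [map_mul, map_mul, map_mul, map_inv, map_inv, mul_inv_eq_iff_eq_mul, one_mul,
      mul_inv_eq_iff_eq_mul]
    exact (mul_inv_eq_iff_eq_mul.mp h1).symm
  exact (QuotientGroup.eq_one_iff (N := N.subgroupOf P) _).mp h2

/-- normalizers grow in `q`-groups. -/
theorem nor_grow (hq : q.Prime) {P P0 : Subgroup G} (hP : IsPGroup q P) (hle : P0 ≤ P)
    (hne : P0 ≠ P) : ∃ g ∈ P, g ∈ nor P0 ∧ g ∉ P0 := by
  haveI := Fact.mk hq
  haveI := hP.isNilpotent
  have hlt : P0.subgroupOf P < ⊤ := by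
    rw [lt_top_iff_ne_top, Ne, Subgroup.subgroupOf_eq_top]
    exact fun h => hne (le_antisymm hle h)
  obtain ⟨g, hg, hg'⟩ := SetLike.exists_of_lt (Group.normalizerCondition_of_isNilpotent _ hlt)
  rw [← Subgroup.subgroupOf_normalizer_eq hle] at hg
  exact ⟨g, g.2, hg, hg'⟩

theorem sup_pgroup {A B : Subgroup G} (hA : IsPGroup q A) (hB : IsPGroup q B) (h : A ≤ nor B) :
    IsPGroup q (A ⊔ B : Subgroup G) := hA.to_sup_of_normal_right' hB h

theorem mem_sup_nor {A B : Subgroup G} (h : A ≤ nor B) {g : G} :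
    g ∈ A ⊔ B ↔ ∃ a ∈ A, ∃ b ∈ B, g = a * b := by
  rw [← SetLike.mem_coe, Subgroup.coe_mul_of_left_le_normalizer_right A B h]
  constructor
  · rintro ⟨a, ha, b, hb, rfl⟩
    exact ⟨a, ha, b, hb, rfl⟩
  · rintro ⟨a, ha, b, hb, rfl⟩
    exact ⟨a, ha, b, hb, rfl⟩

theorem nor_inf_le_nor_sup (A B : Subgroup G) : nor A ⊓ nor B ≤ nor (A ⊔ B) :=
  Subgroup.normalizer_inf_normalizer_le_normalizer_sup A B

theorem nor_inf_le_nor_inf (A B : Subgroup G) : nor A ⊓ nor B ≤ nor (A ⊓ B) :=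
  Subgroup.inf_normalizer_le_normalizer_inf

theorem nor_le_nor_nor (A : Subgroup G) : nor A ≤ nor (nor A) := Subgroup.le_normalizer

/-- dihedral lemma: two involutions whose product has even order. -/
theorem dihedral_even {a b : G} (ha : a * a = 1) (hb : b * b = 1) (h : Even (orderOf (a * b))) :
    ∃ t ∈ Subgroup.closure ({a, b} : Set G), t ≠ 1 ∧ t * t = 1 ∧ Commute t a ∧ Commute t b ∧
      ((∃ g ∈ Subgroup.closure ({a, b} : Set G), t * a = g * a * g⁻¹) ∧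
        (∃ g ∈ Subgroup.closure ({a, b} : Set G), t * b = g * b * g⁻¹) ∨
       (∃ g ∈ Subgroup.closure ({a, b} : Set G), t * a = g * b * g⁻¹) ∧
        (∃ g ∈ Subgroup.closure ({a, b} : Set G), t * b = g * a * g⁻¹)) := by
  have haK : a ∈ Subgroup.closure ({a, b} : Set G) := Subgroup.subset_closure (by simp)
  have hbK : b ∈ Subgroup.closure ({a, b} : Set G) := Subgroup.subset_closure (by simp)
  have hai : a⁻¹ = a := inv_eq_of_mul_eq_one_right ha
  have hbi : b⁻¹ = b := inv_eq_of_mul_eq_one_right hb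
  have hca : a * b * a = a * (a * b)⁻¹ := by rw [mul_inv_rev, hai, hbi, mul_assoc]
  have hcb : a * b * b = b * (a * b)⁻¹ := by
    rw [mul_inv_rev, hai, hbi, mul_assoc, hb, ← mul_assoc, hb, mul_one, one_mul]
  have hbb : a * b * b = a := by rw [mul_assoc, hb, mul_one]
  have hcK := Subgroup.mul_mem _ haK hbK
  obtain ⟨m, hm⟩ := h
  have hpos : 0 < orderOf (a * b) := orderOf_pos _
  have haba : a * b * a = a * b * a⁻¹ := by rw [hai]
  generalize a * b = c at *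
  have htt : c ^ m * c ^ m = 1 := by rw [← pow_add, ← hm, pow_orderOf_eq_one]
  have hti : (c ^ m)⁻¹ = c ^ m := inv_eq_of_mul_eq_one_right htt
  refine ⟨c ^ m, Subgroup.pow_mem _ hcK m, pow_ne_one_of_lt_orderOf (by omega) (by omega), htt,
    ?_, ?_, ?_⟩
  · show c ^ m * a = a * c ^ m
    rw [Cop2Aux.inv_pow_mul hca, hti]
  · show c ^ m * b = b * c ^ m
    rw [Cop2Aux.inv_pow_mul hcb, hti]
  · rcases Nat.even_or_odd' m with ⟨k, rfl | rfl⟩
    · left
      rw [two_mul]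
      exact ⟨⟨c ^ k, Subgroup.pow_mem _ hcK k, Cop2Aux.two_pow_mul hca k⟩,
        ⟨c ^ k, Subgroup.pow_mem _ hcK k, Cop2Aux.two_pow_mul hcb k⟩⟩
    · right
      have e : c ^ (2 * k + 1) = c ^ k * c * c ^ k := by
        rw [← pow_succ, ← pow_add]; congr 1; omega
      have hc : c = a * b := by rw [← hbb, mul_assoc, hb, mul_one]
      refine ⟨⟨c ^ k * a, Subgroup.mul_mem _ (Subgroup.pow_mem _ hcK k) haK, ?_⟩,
        ⟨c ^ k, Subgroup.pow_mem _ hcK k, ?_⟩⟩
      · rw [e, mul_assoc, mul_inv_rev, hai, mul_assoc (c ^ k) a b, ← hc, Cop2Aux.inv_pow_mul hca]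
      · rw [e, mul_assoc, Cop2Aux.inv_pow_mul hcb, ← mul_assoc, mul_assoc (c ^ k) c b, hbb]

theorem dihedral_odd {a b : G} (ha : a * a = 1) (hb : b * b = 1) (h : Odd (orderOf (a * b))) :
    ∃ g ∈ Subgroup.closure ({a, b} : Set G), b = g * a * g⁻¹ := by
  have haK : a ∈ Subgroup.closure ({a, b} : Set G) := Subgroup.subset_closure (by simp)
  have hbK : b ∈ Subgroup.closure ({a, b} : Set G) := Subgroup.subset_closure (by simp)
  have hai : a⁻¹ = a := inv_eq_of_mul_eq_one_right ha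
  have hbi : b⁻¹ = b := inv_eq_of_mul_eq_one_right hb
  have hca : a * b * a = a * (a * b)⁻¹ := by rw [mul_inv_rev, hai, hbi, mul_assoc]
  have hba : b = (a * b)⁻¹ * a := by rw [mul_inv_rev, hai, hbi, mul_assoc, ha, mul_one]
  have hcK := Subgroup.mul_mem _ haK hbK
  obtain ⟨m, hm⟩ := h
  generalize a * b = c at *
  refine ⟨c ^ m, Subgroup.pow_mem _ hcK m, ?_⟩
  have e : c⁻¹ = c ^ (m + m) := by
    apply inv_eq_of_mul_eq_one_left
    rw [← pow_succ, ← two_mul, ← hm, pow_orderOf_eq_one]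
  rw [← Cop2Aux.two_pow_mul hca, ← e]
  exact hba

end Cfsg.Agent.DT
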