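import Cfsg.Agent.DT.ZB

set_option autoImplicit false

namespace Cfsg.Agent.DT

variable {G : Type*} [Group G] [Finite G] {p q : ℕ} {x : G}

namespace LA1Aux

theorem nor_of {R : Subgroup G} {g : G} (h : ∀ a ∈ R, g * a * g⁻¹ ∈ R) : g ∈ nor R :=
  Subgroup.mem_normalizer_fintype (S := (R : Set G)) h

theorem conj_sup {A B R : Subgroup G} {g : G} (hA : ∀ a ∈ A, g * a * g⁻¹ ∈ R)
    (hB : ∀ a ∈ B, g * a * g⁻¹ ∈ R) : ∀ a ∈ A ⊔ B, g * a * g⁻¹ ∈ R := by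
  have : A ⊔ B ≤ R.comap (MulAut.conj g).toMonoidHom :=
    sup_le (fun a ha => hA a ha) fun a ha => hB a ha
  exact fun a ha => this ha

theorem conj_eq {g a : G} (h : Commute g a) : g * a * g⁻¹ = a := by
  rw [h.eq, mul_inv_cancel_right]

theorem nor_bot (g : G) : g ∈ nor (⊥ : Subgroup G) :=
  nor_of fun a ha => by rw [Subgroup.mem_bot] at ha ⊢; simp [ha]

/-- the elements of `Q` centralising `E` modulo `N` -/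
def star (Q E N : Subgroup G) (h : Q ≤ nor N) : Subgroup G where
  carrier := {v | v ∈ Q ∧ ∀ e ∈ E, v * e * v⁻¹ * e⁻¹ ∈ N}
  one_mem' := ⟨Q.one_mem, fun e _ => by simp [N.one_mem]⟩
  mul_mem' := fun {v w} hv hw => ⟨Q.mul_mem hv.1 hw.1, fun e he => by
    have e1 : v * w * e * (v * w)⁻¹ * e⁻¹ =
        v * (w * e * w⁻¹ * e⁻¹) * v⁻¹ * (v * e * v⁻¹ * e⁻¹) := by group
    rw [e1]
    exact N.mul_mem ((mem_nor.1 (h hv.1) _).1 (hw.2 e he)) (hv.2 e he)⟩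
  inv_mem' := fun {v} hv => ⟨Q.inv_mem hv.1, fun e he => by
    have e1 : v⁻¹ * e * v⁻¹⁻¹ * e⁻¹ = v⁻¹ * (v * e * v⁻¹ * e⁻¹)⁻¹ * v⁻¹⁻¹ := by group
    rw [e1]
    exact (mem_nor.1 (h (Q.inv_mem hv.1)) _).1 (N.inv_mem (hv.2 e he))⟩

end LA1Aux

open LA1Aux

theorem Ctx.la_sym (C : Ctx p q x) {Q1 Q2 : Subgroup G} (h1 : Blk q x Q1) (h2 : Blk q x Q2)
    (hZ : ∃ w ∈ Zb x Q2, w ≠ 1) {z : G} (hz : z ∈ Zb x Q1) (hz1 : z ≠ 1) (hz2 : z ∈ nor Q2) :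
    ∃ w ∈ Zb x Q2, w ≠ 1 ∧ w ∈ nor Q1 := by
  obtain ⟨w0, hw0, hw1⟩ := hZ
  have hE : IsPGroup q (Subgroup.zpowers z) :=
    h1.pgroup.to_le ((Subgroup.zpowers_le).2 (zb_le x Q1 hz))
  obtain ⟨w, hw, hwb, hc⟩ := fix_coset C.qp hE (h2.pgroup.to_le (zb_le x Q2)) (N := ⊥) bot_le
    (fun h => hw1 (Subgroup.mem_bot.1 (h ▸ hw0))) (fun g _ => nor_bot g)
    ((Subgroup.zpowers_le).2 (nor_le_nor_zb Q2 hz2)) (fun g _ => nor_bot g)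
  refine ⟨w, hw, fun h => hwb (h ▸ Subgroup.one_mem _), C.cen_zb_le h1 hz hz1 (mem_cen.2 ?_)⟩
  have := Subgroup.mem_bot.1 (hc z (Subgroup.mem_zpowers z))
  rw [mul_inv_eq_one, mul_inv_eq_iff_eq_mul] at this
  exact this

theorem Ctx.la1 (C : Ctx p q x) {Q1 Q2 : Subgroup G} (h1 : Blk q x Q1) (h2 : Blk q x Q2)
    (hne : Q1 ≠ Q2) {y : G} (hy1 : Pt x Q1 y) (hy2 : Pt x Q2 y)
    (hE : ∃ w ∈ Zb x Q2, w ≠ 1 ∧ w ∈ nor Q1) :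
    ∃ U : Subgroup G, U ≤ Q1 ∧ ¬ U ≤ Q2 ∧ cm U y = U ∧
      U ≤ nor ((Q1 ⊓ Q2) ⊔ ((Zb x Q1 ⊓ nor Q2) ⊔ (Zb x Q2 ⊓ nor Q1))) := by
  obtain ⟨e0, he0, he1, he2⟩ := hE
  have hyp : y ^ p = 1 := by rw [← C.ord_pt hy1.1]; exact pow_orderOf_eq_one y
  -- `[E1, E2] = 1`
  have hEE : ∀ a ∈ Zb x Q1 ⊓ nor Q2, ∀ e ∈ Zb x Q2 ⊓ nor Q1, Commute e a := by
    intro a ha e he
    have m1 : e * a * e⁻¹ * a⁻¹ ∈ Zb x Q1 :=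
      Subgroup.mul_mem _ ((mem_nor.1 (nor_le_nor_zb Q1 he.2) _).1 ha.1) (Subgroup.inv_mem _ ha.1)
    have m2 : e * a * e⁻¹ * a⁻¹ ∈ Zb x Q2 := by
      have e1 : e * a * e⁻¹ * a⁻¹ = e * (a * e⁻¹ * a⁻¹) := by group
      rw [e1]
      exact Subgroup.mul_mem _ he.1
        ((mem_nor.1 (nor_le_nor_zb Q2 ha.2) _).1 (Subgroup.inv_mem _ he.1))
    have := C.zb_ti h1 h2 hne m1 m2
    rw [mul_inv_eq_one, mul_inv_eq_iff_eq_mul] at this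
    exact this
  have hN0 : Q1 ⊓ Q2 ⊔ Zb x Q1 ≤ Q1 := sup_le inf_le_left (zb_le x Q1)
  have hQN : Q1 ≤ nor (Q1 ⊓ Q2 ⊔ Zb x Q1) := C.le_nor_of_zb_le h1 le_sup_right hN0
  have hgen : ∀ g, g ∈ nor Q1 → g ∈ nor Q2 → g ∈ nor (Q1 ⊓ Q2 ⊔ Zb x Q1) := fun g g1 g2 =>
    nor_inf_le_nor_sup _ _ ⟨nor_inf_le_nor_inf _ _ ⟨g1, g2⟩, nor_le_nor_zb Q1 g1⟩
  have hEN : Zb x Q2 ⊓ nor Q1 ≤ nor (Q1 ⊓ Q2 ⊔ Zb x Q1) := fun e he =>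
    hgen e he.2 (Subgroup.le_normalizer (zb_le x Q2 he.1))
  have hyE : ∀ e ∈ Zb x Q2 ⊓ nor Q1, Commute e y := fun e he => (mem_zb.1 he.1).2 y hy2
  obtain ⟨v0, hv0, hv1, hv2⟩ := fix_coset C.qp
    (h2.pgroup.to_le (inf_le_left.trans (zb_le x Q2)) : IsPGroup q (Zb x Q2 ⊓ nor Q1 : Subgroup G))
    h1.pgroup hN0 (fun h => C.not_le_sup h1 h2 hne hy1 hy2 h.ge) hQN inf_le_right hEN
  set S := star Q1 (Zb x Q2 ⊓ nor Q1) (Q1 ⊓ Q2 ⊔ Zb x Q1) hQN with hS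
  have hSQ : S ≤ Q1 := fun v hv => hv.1
  have hSp : IsPGroup q S := h1.pgroup.to_le hSQ
  have hyS : y ∈ nor S := nor_of fun v hv => ⟨(mem_nor.1 hy1.2 _).1 hv.1, fun e he => by
    have e1 : y * v * y⁻¹ * e * (y * v * y⁻¹)⁻¹ * e⁻¹ =
        y * (v * (y⁻¹ * e * y⁻¹⁻¹) * v⁻¹ * (y⁻¹ * e * y⁻¹⁻¹)⁻¹) * y⁻¹ := by group
    rw [e1, conj_eq (hyE e he).symm.inv_left]
    exact (mem_nor.1 (hgen y hy1.2 hy2.2) _).1 (hv.2 e he)⟩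
  have hUS : cm S y ≤ S := cm_le hyS
  have hWZ : Q1 ⊓ Q2 ≤ nor (Zb x Q1) := fun w hw =>
    nor_le_nor_zb Q1 (Subgroup.le_normalizer hw.1)
  -- `N0` centralises `W`
  have hNW : ∀ n ∈ Q1 ⊓ Q2 ⊔ Zb x Q1, ∀ w ∈ Q1 ⊓ Q2, Commute n w := by
    intro n hn w hw
    obtain ⟨a, ha, b, hb, rfl⟩ := (mem_sup_nor hWZ).1 hn
    exact (C.inf_comm h1 h2 hne hy1 hy2 ha hw).mul_left (C.zb_central h1 hb hw.1)
  -- `[S, W] ≤ E1`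
  have hSW : ∀ v ∈ S, ∀ w ∈ Q1 ⊓ Q2, v * w * v⁻¹ * w⁻¹ ∈ Zb x Q1 ⊓ nor Q2 := by
    intro v hv w hw
    have hz := C.comm_mem_zb h1 hv.1 hw.1
    refine ⟨hz, C.cen_zb_le h2 he0 he1 (mem_cen.2 ?_)⟩
    have hn := Subgroup.inv_mem _ (hv.2 e0 ⟨he0, he2⟩)
    have c1 := conj_eq (C.zb_central h2 he0 hw.2)
    have c2 := conj_eq (hNW _ hn w hw)
    have c3 := conj_eq (C.zb_central h1 hz (hN0 hn)).symm
    set n := (v * e0 * v⁻¹ * e0⁻¹)⁻¹ with hn'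
    have e1 : e0 * (v * w * v⁻¹ * w⁻¹) * e0⁻¹ =
        n * (v * (e0 * w * e0⁻¹) * v⁻¹ * w⁻¹) * n⁻¹ * (n * w * n⁻¹) * (e0 * w * e0⁻¹)⁻¹ := by
      rw [hn']; group
    rw [c1, c2, c3, mul_inv_cancel_right, mul_inv_eq_iff_eq_mul] at e1
    exact e1.symm
  have hSN' : ∀ v ∈ S, ∀ a ∈ Q1 ⊓ Q2 ⊔ (Zb x Q1 ⊓ nor Q2),
      v * a * v⁻¹ ∈ Q1 ⊓ Q2 ⊔ (Zb x Q1 ⊓ nor Q2) := fun v hv =>
    conj_sup (fun w hw => by
        have e1 : v * w * v⁻¹ = v * w * v⁻¹ * w⁻¹ * w := by group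
        rw [e1]
        exact Subgroup.mul_mem _ (Subgroup.mem_sup_right (hSW v hv w hw)) (Subgroup.mem_sup_left hw))
      fun a ha => by
        rw [conj_eq (C.zb_central h1 ha.1 hv.1).symm]
        exact Subgroup.mem_sup_right ha
  have hEN' : Zb x Q2 ⊓ nor Q1 ≤ nor (Q1 ⊓ Q2 ⊔ (Zb x Q1 ⊓ nor Q2)) := fun e he =>
    nor_of (conj_sup (fun w hw => by
        rw [conj_eq (C.zb_central h2 he.1 hw.2)]
        exact Subgroup.mem_sup_left hw)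
      fun a ha => by
        rw [conj_eq (hEE a ha e he)]
        exact Subgroup.mem_sup_right ha)
  have hyW : y ∈ nor (Q1 ⊓ Q2) := nor_inf_le_nor_inf _ _ ⟨hy1.2, hy2.2⟩
  have hyN : Subgroup.zpowers y ≤ nor (Q1 ⊓ Q2 ⊔ (Zb x Q1 ⊓ nor Q2)) :=
    (Subgroup.zpowers_le).2 (nor_of (conj_sup
      (fun w hw => Subgroup.mem_sup_left ((mem_nor.1 hyW _).1 hw))
      fun a ha => by
        rw [conj_eq ((mem_zb.1 ha.1).2 y hy1).symm]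
        exact Subgroup.mem_sup_right ha))
  have hN0y : cm (Q1 ⊓ Q2 ⊔ Zb x Q1) y ≤ Q1 ⊓ Q2 := cm_le_of hyW fun n hn => by
    obtain ⟨a, ha, b, hb, rfl⟩ := (mem_sup_nor hWZ).1 hn
    have e1 : a * b * y * (a * b)⁻¹ * y⁻¹ = a * ((b * y * b⁻¹) * a⁻¹ * y⁻¹) := by group
    rw [e1, conj_eq ((mem_zb.1 hb).2 y hy1)]
    exact Subgroup.mul_mem _ ha ((mem_nor.1 hyW _).1 (Subgroup.inv_mem _ ha))
  have hSE : ⁅S, Zb x Q2 ⊓ nor Q1⁆ ≤ Q1 ⊓ Q2 ⊔ Zb x Q1 :=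
    Subgroup.commutator_le.2 fun v hv e he => hv.2 e he
  have hEy : cm (Zb x Q2 ⊓ nor Q1) y = ⊥ := cm_eq_bot_iff.2 hyE
  have h3 := three_mod (A := S) (B := Zb x Q2 ⊓ nor Q1) (C := Subgroup.zpowers y)
    (N := Q1 ⊓ Q2 ⊔ (Zb x Q1 ⊓ nor Q2)) (fun v hv => nor_of (hSN' v hv)) hEN' hyN
    (((Subgroup.commutator_mono hSE le_rfl).trans hN0y).trans le_sup_left)
    (by rw [show ⁅Zb x Q2 ⊓ nor Q1, Subgroup.zpowers y⁆ = ⊥ from hEy, Subgroup.commutator_bot_left]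
        exact bot_le)
  rw [Subgroup.commutator_comm (Subgroup.zpowers y) S] at h3
  have hNA : Q1 ⊓ Q2 ⊔ (Zb x Q1 ⊓ nor Q2) ≤
      (Q1 ⊓ Q2) ⊔ ((Zb x Q1 ⊓ nor Q2) ⊔ (Zb x Q2 ⊓ nor Q1)) := sup_le_sup_left le_sup_left _
  refine ⟨cm S y, hUS.trans hSQ, fun hU => hv1 ?_, cop_cm_cm C.pp C.qp C.pq hSp hyp hyS, ?_⟩
  · obtain ⟨a, ha, c, hc, hcy, rfl⟩ := cop_decomp C.pp C.qp C.pq hSp hyp hyS (r := v0) ⟨hv0, hv2⟩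
    exact Subgroup.mul_mem _ (Subgroup.mem_sup_left ⟨hSQ (hUS ha), hU ha⟩)
      (Subgroup.mem_sup_right ((C.zb_iff h1 hy1).2 ⟨hSQ hc, hcy⟩))
  · intro u hu
    refine nor_of (conj_sup (fun w hw => hNA (hSN' u (hUS hu) w (Subgroup.mem_sup_left hw)))
      (conj_sup (fun a ha => hNA (hSN' u (hUS hu) a (Subgroup.mem_sup_right ha))) fun e he => ?_))
    have e1 : u * e * u⁻¹ = u * e * u⁻¹ * e⁻¹ * e := by group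
    rw [e1]
    exact Subgroup.mul_mem _ (hNA (h3 (Subgroup.commutator_mem_commutator hu he)))
      (Subgroup.mem_sup_right (Subgroup.mem_sup_right he))

end Cfsg.Agent.DT
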