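import Cfsg.Agent.DT.Cop
import Cfsg.Agent.DT.Cop2

set_option autoImplicit false
set_option linter.unusedSectionVars false

namespace Cfsg.Agent.DT

variable {G : Type*} [Group G] [Finite G] {p q : ℕ} {x : G}

namespace NAAux

variable {Q : Subgroup G}

theorem nor_of {R : Subgroup G} {g : G} (h : ∀ a ∈ R, g * a * g⁻¹ ∈ R) : g ∈ nor R :=
  Subgroup.mem_normalizer_fintype (S := (R : Set G)) h

theorem nor_cent {R : Subgroup G} {g : G} (h : g ∈ nor R) :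
    g ∈ nor (Subgroup.centralizer (R : Set G)) := by
  refine nor_of fun c hc => Subgroup.mem_centralizer_iff.2 fun a ha => ?_
  have h1 : g⁻¹ * a * g⁻¹⁻¹ ∈ R := (mem_nor.1 (inv_mem h) a).1 ha
  have h2 := Subgroup.mem_centralizer_iff.1 hc _ h1
  calc a * (g * c * g⁻¹) = g * (g⁻¹ * a * g⁻¹⁻¹ * c) * g⁻¹ := by group
    _ = _ := by rw [h2]; group

theorem nor_inf {A B : Subgroup G} {g : G} (h1 : g ∈ nor A) (h2 : g ∈ nor B) : g ∈ nor (A ⊓ B) :=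
  nor_inf_le_nor_inf A B ⟨h1, h2⟩

/-- the centre -/
def Zq (Q : Subgroup G) : Subgroup G := Q ⊓ Subgroup.centralizer (Q : Set G)

theorem mem_Zq {z : G} : z ∈ Zq Q ↔ z ∈ Q ∧ ∀ a ∈ Q, a * z = z * a := by
  unfold Zq
  rw [Subgroup.mem_inf, Subgroup.mem_centralizer_iff]; rfl

theorem nor_Zq {g : G} (h : g ∈ nor Q) : g ∈ nor (Zq Q) := nor_inf h (nor_cent h)

/-- elements central modulo the centre, with commutators of exponent `n` -/
def Hn (Q : Subgroup G) (n : ℕ) : Subgroup G where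
  carrier := {h | h ∈ Q ∧ ∀ a ∈ Q, ∃ z ∈ Zq Q, z ^ n = 1 ∧ h * a * h⁻¹ = z * a}
  one_mem' := ⟨one_mem _, fun a _ => ⟨1, one_mem _, one_pow _, by simp⟩⟩
  mul_mem' := by
    rintro h1 h2 ⟨a1, b1⟩ ⟨a2, b2⟩
    refine ⟨mul_mem a1 a2, fun a ha => ?_⟩
    obtain ⟨z1, c1, d1, e1⟩ := b1 a ha
    obtain ⟨z2, c2, d2, e2⟩ := b2 a ha
    have hc : Commute z2 z1 := (mem_Zq.1 c1).2 z2 (mem_Zq.1 c2).1
    refine ⟨z2 * z1, mul_mem c2 c1, by rw [hc.mul_pow, d1, d2, mul_one], ?_⟩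
    calc h1 * h2 * a * (h1 * h2)⁻¹ = h1 * (h2 * a * h2⁻¹) * h1⁻¹ := by group
      _ = (h1 * z2) * a * h1⁻¹ := by rw [e2]; group
      _ = z2 * (h1 * a * h1⁻¹) := by rw [(mem_Zq.1 c2).2 h1 a1]; group
      _ = _ := by rw [e1, mul_assoc]
  inv_mem' := by
    rintro h ⟨a1, b1⟩
    refine ⟨inv_mem a1, fun a ha => ?_⟩
    obtain ⟨z, c, d, e⟩ := b1 a ha
    refine ⟨z⁻¹, inv_mem c, by rw [inv_pow, d, inv_one], ?_⟩
    have h1 : h⁻¹ * z = z * h⁻¹ := (mem_Zq.1 c).2 _ (inv_mem a1)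
    calc h⁻¹ * a * h⁻¹⁻¹ = z⁻¹ * (z * h⁻¹) * a * h := by group
      _ = z⁻¹ * (h⁻¹ * (z * a) * h) := by rw [← h1]; group
      _ = _ := by rw [← e]; group

theorem mem_Hn {n : ℕ} {h : G} :
    h ∈ Hn Q n ↔ h ∈ Q ∧ ∀ a ∈ Q, ∃ z ∈ Zq Q, z ^ n = 1 ∧ h * a * h⁻¹ = z * a := Iff.rfl

theorem Zq_le_Hn (n : ℕ) : Zq Q ≤ Hn Q n := fun z hz =>
  ⟨(mem_Zq.1 hz).1, fun a ha => ⟨1, one_mem _, one_pow _, by rw [← (mem_Zq.1 hz).2 a ha]; group⟩⟩

theorem nor_Hn {n : ℕ} {g : G} (h : g ∈ nor Q) : g ∈ nor (Hn Q n) := by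
  refine nor_of fun c hc => ⟨(mem_nor.1 h c).1 hc.1, fun a ha => ?_⟩
  obtain ⟨z, c1, d, e⟩ := hc.2 _ ((mem_nor.1 (inv_mem h) a).1 ha)
  refine ⟨g * z * g⁻¹, (mem_nor.1 (nor_Zq h) z).1 c1, by rw [conj_pow, d]; group, ?_⟩
  calc g * c * g⁻¹ * a * (g * c * g⁻¹)⁻¹ = g * (c * (g⁻¹ * a * g⁻¹⁻¹) * c⁻¹) * g⁻¹ := by group
    _ = _ := by rw [e]; group

theorem pow_conj {h a z : G} (hz : h * z = z * h) (e : h * a * h⁻¹ = z * a) (n : ℕ) :
    h ^ n * a * (h ^ n)⁻¹ = z ^ n * a := by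
  induction n with
  | zero => simp
  | succ n ih =>
    have h1 : h * z ^ n = z ^ n * h := (Commute.pow_right hz n).eq
    calc h ^ (n + 1) * a * (h ^ (n + 1))⁻¹ = h * (h ^ n * a * (h ^ n)⁻¹) * h⁻¹ := by rw [pow_succ']; group
      _ = (h * z ^ n) * a * h⁻¹ := by rw [ih]; group
      _ = z ^ n * (h * a * h⁻¹) := by rw [h1]; group
      _ = _ := by rw [e, pow_succ, mul_assoc]

/-- a normal subgroup centralised by `x` is central in `Q = [Q,x]` -/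
theorem star (hQQ : cm Q x = Q) {C : Subgroup G} (hCQ : C ≤ Q) (hn : Q ≤ nor C) (hx : C ≤ cen x) :
    C ≤ Zq Q := by
  have h1 : x ∈ Subgroup.centralizer (C : Set G) :=
    Subgroup.mem_centralizer_iff.2 fun c hc => (mem_cen.1 (hx hc)).eq
  have h2 : Q ≤ Subgroup.centralizer (C : Set G) := by
    rw [← hQQ]
    refine cm_le_of (Subgroup.le_normalizer h1) fun a ha => mul_mem ?_ (inv_mem h1)
    exact (mem_nor.1 (nor_cent (hn ha)) x).1 h1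
  exact fun c hc => mem_Zq.2 ⟨hCQ hc, fun a ha => (Subgroup.mem_centralizer_iff.1 (h2 ha) c hc).symm⟩

theorem isMulComm {A : Subgroup G} (h : ∀ a ∈ A, ∀ b ∈ A, a * b = b * a) : IsMulCommutative A :=
  ⟨⟨fun a b => Subtype.ext (h a a.2 b b.2)⟩⟩

theorem D_le (hq : q.Prime) (hQ : IsPGroup q Q) (hxQ : x ∈ nor Q) (hQQ : cm Q x = Q)
    (h : ∀ A : Subgroup G, IsPGroup q A → IsMulCommutative A → x ∈ nor A → A ≤ cen x) :
    Q ⊓ Subgroup.centralizer (Hn Q q : Set G) ≤ Zq Q := by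
  classical
  set D := Q ⊓ Subgroup.centralizer (Hn Q q : Set G) with hD
  have hnD : ∀ g ∈ nor Q, g ∈ nor D := fun g hg => nor_inf hg (nor_cent (nor_Hn hg))
  have hZD : Zq Q ≤ D := fun z hz => ⟨(mem_Zq.1 hz).1,
    Subgroup.mem_centralizer_iff.2 fun a ha => (mem_Zq.1 hz).2 a ha.1⟩
  have hHD : Hn Q q ⊓ D ≤ Zq Q := by
    refine star hQQ (inf_le_right.trans inf_le_left) (fun a ha => nor_inf
      (nor_Hn (Subgroup.le_normalizer ha)) (hnD a (Subgroup.le_normalizer ha))) ?_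
    refine h _ (hQ.to_le (inf_le_right.trans inf_le_left)) (isMulComm fun a ha b hb => ?_)
      (nor_inf (nor_Hn hxQ) (hnD x hxQ))
    exact Subgroup.mem_centralizer_iff.1 hb.2.2 a ha.1
  by_contra hne
  obtain ⟨v, hv, hvZ, hc⟩ := fix_coset hq (E := Q) (Q := D) (N := Zq Q) hQ (hQ.to_le inf_le_left) hZD
    (fun e => hne e.ge) (fun a ha => nor_Zq (Subgroup.le_normalizer ha.1))
    (fun a ha => hnD a (Subgroup.le_normalizer ha)) (fun a ha => nor_Zq (Subgroup.le_normalizer ha))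
  have hex : ∃ n, v ^ q ^ n ∈ Zq Q := by
    obtain ⟨n, hn⟩ := hQ ⟨v, hv.1⟩
    refine ⟨n, ?_⟩
    have : v ^ q ^ n = 1 := by simpa using congrArg Subtype.val hn
    rw [this]; exact one_mem _
  have h0 : Nat.find hex ≠ 0 := fun e => by
    have := Nat.find_spec hex
    rw [e, pow_zero, pow_one] at this
    exact hvZ this
  obtain ⟨m, hm⟩ := Nat.exists_eq_succ_of_ne_zero h0
  have h1 : v ^ q ^ m ∉ Zq Q := Nat.find_min hex (by omega)
  have h2 : (v ^ q ^ m) ^ q ∈ Zq Q := by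
    have := Nat.find_spec hex
    rwa [hm, pow_succ, pow_mul] at this
  refine h1 (hHD ⟨⟨pow_mem hv.1 _, fun a ha => ?_⟩, pow_mem hv _⟩)
  have h3 : v * (v * a * v⁻¹ * a⁻¹) = (v * a * v⁻¹ * a⁻¹) * v := (mem_Zq.1 (hc a ha)).2 v hv.1
  have h4 := pow_conj (a := a) h3 (by group)
  refine ⟨_, pow_mem (hc a ha) _, ?_, h4 (q ^ m)⟩
  have h5 := h4 (q ^ m * q)
  rw [pow_mul v, ← (mem_Zq.1 h2).2 a ha, mul_inv_cancel_right, pow_mul] at h5
  exact mul_eq_right.1 h5.symm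

theorem cen_le (hp : p.Prime) (hq : q.Prime) (hpq : p ≠ q) (hx : x ^ p = 1) (hQ : IsPGroup q Q)
    (hxQ : x ∈ nor Q) (hQQ : cm Q x = Q) (hZ : Zq Q ≤ cen x) {c : G} (hc : c ∈ Q) (hcx : Commute c x) :
    c ∈ Subgroup.centralizer (Hn Q q : Set G) := by
  have hHQ : Hn Q q ≤ Q := fun a ha => ha.1
  have h1 : Hn Q q ⊓ cen x ≤ Zq Q := by
    refine star hQQ (inf_le_left.trans hHQ) (fun a ha => nor_of fun d hd => ?_) inf_le_right
    obtain ⟨z, c1, -, e⟩ := hd.1.2 a ha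
    have : a * d * a⁻¹ = z⁻¹ * d := by
      calc a * d * a⁻¹ = z⁻¹ * (z * a) * d * a⁻¹ := by group
        _ = z⁻¹ * d * (a * a⁻¹) := by rw [← e]; group
        _ = _ := by group
    rw [this]
    exact mul_mem (inv_mem ⟨Zq_le_Hn q c1, hZ c1⟩) hd
  have hxc : x ∈ cen c := mem_cen.2 hcx.symm
  have h2 : cm (Hn Q q) x ≤ cen c := by
    refine cm_le_of (Subgroup.le_normalizer hxc) fun a ha => mul_mem (mem_cen.2 ?_) (inv_mem hxc)
    obtain ⟨z, c1, -, e⟩ := ha.2 c hc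
    have h3 : Commute (a * x * a⁻¹) (a * c * a⁻¹) := by
      have := hcx.symm.map (MulAut.conj a)
      simpa using this
    have h4 : Commute (a * x * a⁻¹) z := by
      have h5 : Commute a z := (mem_Zq.1 c1).2 a ha.1
      exact (h5.mul_left (mem_cen.1 (hZ c1)).symm).mul_left h5.inv_left
    have : c = z⁻¹ * (a * c * a⁻¹) := by rw [e]; group
    rw [this]
    exact h4.inv_right.mul_right h3
  refine Subgroup.mem_centralizer_iff.2 fun a ha => ?_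
  obtain ⟨u, hu, d, hd, hdx, rfl⟩ := cop_decomp hp hq hpq (hQ.to_le hHQ) hx (nor_Hn hxQ) ha
  have h3 : Commute u c := mem_cen.1 (h2 hu)
  have h4 : Commute c d := (mem_Zq.1 (h1 ⟨hd, mem_cen.2 hdx⟩)).2 c hc
  exact (h3.mul_left h4.symm).eq

end NAAux

open NAAux in
theorem h2_of_na (hp : p.Prime) (hq : q.Prime) (hpq : p ≠ q) (x : G) (hx : orderOf x = p)
    (h : ∀ A : Subgroup G, IsPGroup q A → IsMulCommutative A → x ∈ nor A → A ≤ cen x) :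
    H2 q x := by
  intro R hR hxR a ha
  have hxp : x ^ p = 1 := hx ▸ pow_orderOf_eq_one x
  have hQQ := cop_cm_cm hp hq hpq hR hxp hxR
  have hQ : IsPGroup q (cm R x) := hR.to_le (cm_le hxR)
  have hxQ := mem_nor_cm R x
  generalize cm R x = Q at *
  have hZ : Zq Q ≤ cen x := h _ (hQ.to_le inf_le_left)
    (isMulComm fun a ha b hb => (mem_Zq.1 hb).2 a (mem_Zq.1 ha).1) (nor_Zq hxQ)
  have hD := D_le hq hQ hxQ hQQ h
  refine ⟨mem_cen.1 (hZ (hD ⟨pow_mem ha _, Subgroup.mem_centralizer_iff.2 fun g hg => ?_⟩)),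
    fun b hb => mem_cen.1 (hZ (hD ⟨Q.mul_mem (Q.mul_mem (Q.mul_mem ha hb) (Q.inv_mem ha)) (Q.inv_mem hb),
      Subgroup.mem_centralizer_iff.2 fun g hg => ?_⟩)),
    fun hax b hb => ((mem_Zq.1 (hD ⟨ha, cen_le hp hq hpq hxp hQ hxQ hQQ hZ ha hax⟩)).2 b hb).symm⟩
  · obtain ⟨z, c1, d, e⟩ := hg.2 a ha
    have h1 : Commute z a := ((mem_Zq.1 c1).2 a ha).symm
    have h2 : g * a ^ q * g⁻¹ = a ^ q := by rw [← conj_pow, e, h1.mul_pow, d, one_mul]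
    exact mul_inv_eq_iff_eq_mul.1 h2
  · obtain ⟨z, c1, -, e⟩ := hg.2 a ha
    obtain ⟨w, c2, -, e'⟩ := hg.2 b hb
    have h1 := (mem_Zq.1 c1).2 _ (mul_mem (mul_mem (mul_mem ha (mem_Zq.1 c2).1) hb) (inv_mem ha))
    have h2 := (mem_Zq.1 c2).2 a ha
    have h3 := (mem_Zq.1 c2).2 _ (mul_mem (mul_mem (mul_mem ha hb) (inv_mem ha)) (inv_mem hb))
    refine mul_inv_eq_iff_eq_mul.1 ?_
    calc g * (a * b * a⁻¹ * b⁻¹) * g⁻¹
        = (g * a * g⁻¹) * (g * b * g⁻¹) * (g * a * g⁻¹)⁻¹ * (g * b * g⁻¹)⁻¹ := by group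
      _ = (z * (a * w * b * a⁻¹)) * z⁻¹ * b⁻¹ * w⁻¹ := by rw [e, e']; group
      _ = (a * w) * b * a⁻¹ * b⁻¹ * w⁻¹ := by rw [← h1]; group
      _ = (w * (a * b * a⁻¹ * b⁻¹)) * w⁻¹ := by rw [h2]; group
      _ = _ := by rw [← h3]; group

end Cfsg.Agent.DT
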