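import Cfsg.Agent.DT.Loc

set_option autoImplicit false
set_option linter.unusedSectionVars false

namespace Cfsg.Agent.DT

variable {G : Type*} [Group G] [Finite G] {p q : ℕ} {x : G}

theorem Ctx.blk_of (C : Ctx p q x) {R : Subgroup G} {y : G} (hy : IsConj x y) (hR : IsPGroup q R)
    (hyR : y ∈ nor R) (hne : cm R y ≠ ⊥) :
    ∃ Q, Blk q x Q ∧ Pt x Q y ∧ R ≤ nor Q ∧ cm R y ≤ Q := by
  obtain ⟨S, ⟨hS, hyS, hRS⟩, hmax⟩ :=
    (Set.toFinite {S : Subgroup G | IsPGroup q S ∧ y ∈ nor S ∧ R ≤ S}).exists_maximal ⟨R, hR, hyR, le_rfl⟩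
  have le : cm R y ≤ cm S y := Subgroup.commutator_mono hRS le_rfl
  have ne : cm S y ≠ ⊥ := fun e => hne (eq_bot_iff.2 (e ▸ le))
  have hL := C.nor_ne_top hS fun e => ne (eq_bot_iff.2 (e ▸ cm_le hyS))
  have th : cm (nor S) y ≤ S := le_sup_right.trans (hmax
    (show IsPGroup q (S ⊔ cm (nor S) y : Subgroup G) ∧ _ from
      ⟨sup_pgroup hS (C.loc _ y hL hyS hy) (Subgroup.le_normalizer.trans (le_nor_cm _ y)),
        nor_inf_le_nor_sup _ _ ⟨hyS, mem_nor_cm _ y⟩, hRS.trans le_sup_left⟩) le_sup_left)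
  have syl : ∀ {S' : Subgroup G}, IsPGroup q S' → S ≤ S' → S' = S := fun {S'} h' l' => by
    by_contra e
    obtain ⟨g, g1, g2, g3⟩ := nor_grow C.qp h' l' (Ne.symm e)
    have l2 : S ≤ S' ⊓ nor S := le_inf l' Subgroup.le_normalizer
    exact g3 (hmax (show IsPGroup q (S' ⊓ nor S : Subgroup G) ∧ _ from
      ⟨h'.to_inf_left, mem_nor_of_cm_le inf_le_right (th.trans l2), hRS.trans l2⟩) l2 ⟨g1, g2⟩)
  exact ⟨cm S y, ⟨ne, ⟨S, hS, syl⟩, y, hy, hyS, rfl⟩, ⟨hy, mem_nor_cm _ y⟩, hRS.trans (le_nor_cm _ y), le⟩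

theorem Blk.pgroup {Q : Subgroup G} (h : Blk q x Q) : IsPGroup q Q := by
  obtain ⟨-, S, y, -, hy, rfl⟩ := h
  exact S.isPGroup'.to_le (cm_le hy)

theorem Blk.exists_pt {Q : Subgroup G} (h : Blk q x Q) : ∃ y, Pt x Q y := by
  obtain ⟨-, S, y, hy, -, rfl⟩ := h
  exact ⟨y, hy, mem_nor_cm _ y⟩

theorem Blk.cj {Q : Subgroup G} (h : Blk q x Q) (g : G) : Blk q x (cj g Q) := by
  obtain ⟨ne, S, y, hy, hS, rfl⟩ := h
  have e : ((g • S : Sylow q G) : Subgroup G) = DT.cj g S := rfl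
  refine ⟨fun e => ne ((Subgroup.map_eq_bot_iff_of_injective _ (MulAut.conj g).injective).1 e), g • S,
    g * y * g⁻¹, hy.trans (isConj_iff.2 ⟨g, rfl⟩), ?_, ?_⟩
  · rw [e, nor_cj, mem_cj]
    simpa [mul_assoc] using hS
  · rw [e, cj_cm]

theorem Pt.cj {Q : Subgroup G} {y : G} (h : Pt x Q y) (g : G) : Pt x (cj g Q) (g * y * g⁻¹) :=
  ⟨h.1.trans (isConj_iff.2 ⟨g, rfl⟩), by
    rw [nor_cj, mem_cj]
    simpa [mul_assoc] using h.2⟩

theorem Pt.conj {Q : Subgroup G} {y g : G} (h : Pt x Q y) (hg : g ∈ nor Q) :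
    Pt x Q (g * y * g⁻¹) :=
  ⟨h.1.trans (isConj_iff.2 ⟨g, rfl⟩), mul_mem (mul_mem hg h.2) (inv_mem hg)⟩

theorem zb_cj (g : G) (Q : Subgroup G) : Zb x (cj g Q) = cj g (Zb x Q) := by
  ext z
  rw [mem_cj, mem_zb, mem_zb, mem_cj]
  refine and_congr Iff.rfl ⟨fun h y hy => ?_, fun h y hy => ?_⟩
  · have e := (h _ (hy.cj g)).eq
    show _ = _
    calc _ = g⁻¹ * (z * (g * y * g⁻¹)) * g := by group
      _ = _ := by rw [e]; group
  · have a := hy.cj g⁻¹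
    rw [cj_cj, inv_mul_cancel, cj_eq_self_iff.2 (one_mem _)] at a
    have e := (h _ a).eq
    show _ = _
    calc _ = g * (g⁻¹ * z * g * (g⁻¹ * y * g⁻¹⁻¹)) * g⁻¹ := by group
      _ = _ := by rw [e]; group

theorem nor_le_nor_zb (Q : Subgroup G) : nor Q ≤ nor (Zb x Q) := fun g hg =>
  cj_eq_self_iff.1 (by rw [← zb_cj, cj_eq_self_iff.2 hg])

theorem Ctx.blk_nor_ne_top (C : Ctx p q x) {Q : Subgroup G} (h : Blk q x Q) : nor Q ≠ ⊤ :=
  C.nor_ne_top h.pgroup h.1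

theorem Ctx.blk_cm_nor (C : Ctx p q x) {Q : Subgroup G} (h : Blk q x Q) {y : G} (hy : Pt x Q y) :
    cm (nor Q) y = Q := by
  have hM := C.blk_nor_ne_top h
  obtain ⟨-, S, y0, hy0, hS, e⟩ := h
  have m0 : y0 ∈ nor Q := e ▸ mem_nor_cm _ y0
  have SM : (S : Subgroup G) ≤ nor Q := e ▸ le_nor_cm _ y0
  have th : cm (nor Q) y0 ≤ S := le_sup_right.trans (S.is_maximal'
    (sup_pgroup S.isPGroup' (C.loc _ y0 hM m0 hy0) (SM.trans (le_nor_cm _ y0))) le_sup_left).le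
  have e0 : cm (nor Q) y0 = Q := by
    refine le_antisymm ?_ (e.le.trans (Subgroup.commutator_mono SM le_rfl))
    rw [← C.loc_cm_cm hM hy0 m0]
    exact (Subgroup.commutator_mono th le_rfl).trans e.ge
  obtain ⟨t, ht, e1⟩ := C.loc_pts hM hy0 m0 hy.1 hy.2
  rw [e0] at ht
  have tn : t⁻¹ ∈ nor Q := inv_mem (Subgroup.le_normalizer ht)
  have a := cj_cm t⁻¹ (nor Q) y0
  rw [e0, cj_eq_self_iff.2 tn, cj_eq_self_iff.2 (nor_le_nor_nor _ tn), inv_inv, ← e1] at a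
  exact a.symm

theorem Ctx.blk_cm (C : Ctx p q x) {Q : Subgroup G} (h : Blk q x Q) {y : G} (hy : Pt x Q y) :
    cm Q y = Q := by
  have a := C.loc_cm_cm (C.blk_nor_ne_top h) hy.1 hy.2
  rwa [C.blk_cm_nor h hy] at a

theorem Ctx.blk_pts (C : Ctx p q x) {Q : Subgroup G} (h : Blk q x Q) {y y' : G} (hy : Pt x Q y)
    (hy' : Pt x Q y') : ∃ t ∈ Q, y' = t⁻¹ * y * t := by
  have a := C.loc_pts (C.blk_nor_ne_top h) hy.1 hy.2 hy'.1 hy'.2
  rwa [C.blk_cm_nor h hy] at a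

theorem Ctx.blk_decomp (C : Ctx p q x) {Q : Subgroup G} (h : Blk q x Q) {y : G} (hy : Pt x Q y)
    {g : G} (hg : g ∈ nor Q) : ∃ a ∈ Q, ∃ c ∈ nor Q, Commute c y ∧ g = a * c := by
  have a := C.loc_decomp (C.blk_nor_ne_top h) hy.1 hy.2 hg
  rwa [C.blk_cm_nor h hy] at a

end Cfsg.Agent.DT
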