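import Cfsg.Agent.DT.Blk1

set_option autoImplicit false

namespace Cfsg.Agent.DT

variable {G : Type*} [Group G] [Finite G] {p q : ℕ} {x : G}

theorem Ctx.blk_conj (C : Ctx p q x) {Q1 Q2 : Subgroup G} (h1 : Blk q x Q1) (h2 : Blk q x Q2) :
    ∃ g : G, Q2 = cj g Q1 := by
  haveI := Fact.mk C.qp
  obtain ⟨-, S1, y1, hy1, hn1, rfl⟩ := h1
  obtain ⟨hne, S2, y2, hy2, hn2, rfl⟩ := h2
  obtain ⟨g, hg⟩ := MulAction.exists_smul_eq G S1 S2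
  have hS : (S2 : Subgroup G) = cj g (S1 : Subgroup G) := by rw [← hg]; rfl
  have hS2 : (S2 : Subgroup G) ≠ ⊥ := fun e => hne (eq_bot_iff.2 ((cm_le hn2).trans e.le))
  have hL := C.nor_ne_top S2.isPGroup' hS2
  have hy1' : IsConj x (g * y1 * g⁻¹) := hy1.trans (isConj_iff.2 ⟨g, rfl⟩)
  have hn1' : g * y1 * g⁻¹ ∈ nor (S2 : Subgroup G) := by
    rw [hS, nor_cj, mem_cj]
    simpa [mul_assoc] using hn1
  obtain ⟨t, ht, e⟩ := C.loc_pts hL hy1' hn1' hy2 hn2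
  have ht' : t ∈ nor (S2 : Subgroup G) := cm_le (Subgroup.le_normalizer hn1') ht
  refine ⟨t⁻¹ * g, ?_⟩
  rw [← cj_cj, cj_cm, ← hS, cj_cm, cj_eq_self_iff.2 (inv_mem ht'), inv_inv, ← e]

theorem Ctx.blk_eq_of_le (C : Ctx p q x) {Q1 Q2 : Subgroup G} (h1 : Blk q x Q1) (h2 : Blk q x Q2)
    (h : Q1 ≤ Q2) : Q1 = Q2 := by
  obtain ⟨g, hg⟩ := C.blk_conj h1 h2
  exact Subgroup.eq_of_le_of_card_ge h (by rw [hg, card_cj])

theorem Ctx.card_zb (C : Ctx p q x) {Q1 Q2 : Subgroup G} (h1 : Blk q x Q1) (h2 : Blk q x Q2) :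
    Nat.card (Zb x Q1) = Nat.card (Zb x Q2) := by
  obtain ⟨g, hg⟩ := C.blk_conj h1 h2
  rw [hg, zb_cj, card_cj]

theorem Ctx.two_pts (C : Ctx p q x) {y y' : G} (hy : IsConj x y) (hy' : IsConj x y')
    (hne : y ≠ y') : ∃ Q, Blk q x Q ∧ Pt x Q y ∧ Pt x Q y' := by
  obtain ⟨R, hR, hyR, hm⟩ := h1_conj C.h1 hy y' (hy.symm.trans hy')
  have hp : y ^ p = 1 := by rw [← C.ord_pt hy, pow_orderOf_eq_one]
  have hp' : y' ^ p = 1 := by rw [← C.ord_pt hy', pow_orderOf_eq_one]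
  obtain ⟨t, ht, e⟩ := cop_conj C.pp C.qp C.pq hR hp hp' hyR hm
  have hb : cm R y ≠ ⊥ := fun h => hne (by
    rw [h, Subgroup.mem_bot] at ht
    rw [e, ht, inv_one, one_mul, mul_one])
  obtain ⟨Q, hQ, hpt, hRQ, -⟩ := C.blk_of hy hR hyR hb
  refine ⟨Q, hQ, hpt, hy', ?_⟩
  have h3 := mul_mem hpt.2 (hRQ hm)
  rwa [mul_inv_cancel_left] at h3

theorem Ctx.exists_blk (C : Ctx p q x) {y : G} (hy : IsConj x y) : ∃ Q, Blk q x Q ∧ Pt x Q y := by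
  obtain ⟨y', hy', hne⟩ := C.exists_other y
  obtain ⟨Q, hQ, h1, -⟩ := C.two_pts hy hy' hne.symm
  exact ⟨Q, hQ, h1⟩

theorem Ctx.exists_out (C : Ctx p q x) {Q : Subgroup G} (h : Blk q x Q) :
    ∃ c, IsConj x c ∧ c ∉ nor Q := by
  by_contra hc
  push Not at hc
  refine C.blk_nor_ne_top h (eq_top_iff.2 ?_)
  rw [← C.gen, Subgroup.closure_le]
  exact fun c hc' => hc c hc'

theorem Ctx.second_blk (C : Ctx p q x) {Q : Subgroup G} (h : Blk q x Q) {y : G} (hy : Pt x Q y) :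
    ∃ Q', Blk q x Q' ∧ Pt x Q' y ∧ Q' ≠ Q := by
  obtain ⟨c, hc, hc'⟩ := C.exists_out h
  obtain ⟨Q', hQ', h1, h2⟩ := C.two_pts hy.1 hc (fun e => hc' (e ▸ hy.2))
  exact ⟨Q', hQ', h1, fun e => hc' (e ▸ h2.2)⟩

theorem Ctx.b8 (C : Ctx p q x) {Q L : Subgroup G} (h : Blk q x Q) {y : G} (hy : Pt x Q y)
    (hL : L ≠ ⊤) (hQL : Q ≤ L) (hyL : y ∈ L) : L ≤ nor Q := by
  have h1 : Q ≤ cm L y := by
    rw [← C.blk_cm h hy]
    exact Subgroup.commutator_mono hQL le_rfl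
  have h2 := C.loc_cm_cm hL hy.1 hyL
  obtain ⟨Q3, hQ3, -, -, h3⟩ := C.blk_of hy.1 (C.loc L y hL hyL hy.1) (mem_nor_cm L y)
    (by rw [h2]; exact fun e => h.1 (eq_bot_iff.2 (h1.trans e.le)))
  rw [h2] at h3
  have h4 := C.blk_eq_of_le h hQ3 (h1.trans h3)
  have h5 : cm L y = Q := le_antisymm (h4 ▸ h3) h1
  rw [← h5]
  exact le_nor_cm L y

theorem Ctx.blk_eq_of_pts (C : Ctx p q x) {Q1 Q2 : Subgroup G} (h1 : Blk q x Q1) (h2 : Blk q x Q2)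
    (h : ∀ y, Pt x Q1 y → y ∈ nor Q2) : Q1 = Q2 := by
  obtain ⟨y, hy⟩ := h1.exists_pt
  have hy2 : Pt x Q2 y := ⟨hy.1, h y hy⟩
  refine C.blk_eq_of_le h1 h2 ?_
  rw [← C.blk_cm h1 hy]
  refine cm_le_of hy2.2 fun a ha => ?_
  have h3 := hy.conj (Subgroup.le_normalizer ha)
  obtain ⟨t, ht, e⟩ := C.blk_pts h2 hy2 ⟨h3.1, h _ h3⟩
  rw [e]
  have h4 := mul_mem (inv_mem ht) ((mem_nor.1 hy2.2 t).1 ht)
  simpa [mul_assoc] using h4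

theorem Ctx.le_of_pts (C : Ctx p q x) {Q L : Subgroup G} (h : Blk q x Q)
    (hL : ∀ y, Pt x Q y → y ∈ L) : Q ≤ L := by
  obtain ⟨y, hy⟩ := h.exists_pt
  rw [← C.blk_cm h hy]
  refine cm_le_of (Subgroup.le_normalizer (hL y hy)) fun a ha => ?_
  exact mul_mem (hL _ (hy.conj (Subgroup.le_normalizer ha))) (inv_mem (hL y hy))

end Cfsg.Agent.DT
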