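import Cfsg.Agent.DT.Defs

set_option autoImplicit false

namespace Cfsg.Agent.DT

variable {G : Type*} [Group G] [Finite G] {p q : ℕ} {x : G}

theorem cm_le_of {R H : Subgroup G} {y : G} (hy : y ∈ nor H)
    (h : ∀ a ∈ R, a * y * a⁻¹ * y⁻¹ ∈ H) : cm R y ≤ H := by
  refine Subgroup.commutator_le.2 fun a ha g hg => ?_
  obtain ⟨k, rfl⟩ := (Submonoid.mem_powers_iff _ _).1 (mem_powers_iff_mem_zpowers.2 hg)
  clear hg
  rw [commutatorElement_def]
  induction k with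
  | zero => simp
  | succ k ih =>
    have := mul_mem (h a ha) ((mem_nor.1 hy _).1 ih)
    rwa [show a * y * a⁻¹ * y⁻¹ * (y * (a * y ^ k * a⁻¹ * (y ^ k)⁻¹) * y⁻¹) =
      a * y ^ (k + 1) * a⁻¹ * (y ^ (k + 1))⁻¹ by rw [pow_succ']; group] at this

theorem cm_le {R : Subgroup G} {y : G} (hy : y ∈ nor R) : cm R y ≤ R :=
  cm_le_of hy fun a ha => by
    have := mul_mem ha ((mem_nor.1 hy _).1 (inv_mem ha))
    rwa [← mul_assoc, ← mul_assoc] at this

omit [Finite G] in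
theorem CopAux.le_nor_cm (R : Subgroup G) (y : G) : R ≤ nor (cm R y) := Subgroup.normalizer_commutator_ge_left _ _

theorem le_nor_cm (R : Subgroup G) (y : G) : R ≤ nor (cm R y) := CopAux.le_nor_cm R y

theorem mem_nor_cm (R : Subgroup G) (y : G) : y ∈ nor (cm R y) :=
  Subgroup.normalizer_commutator_ge_right _ _ (Subgroup.mem_zpowers y)

theorem comm_mem_cm {R : Subgroup G} {a : G} (y : G) (ha : a ∈ R) :
    a * y * a⁻¹ * y⁻¹ ∈ cm R y ∧ y * a * y⁻¹ * a⁻¹ ∈ cm R y ∧ y⁻¹ * a⁻¹ * y * a ∈ cm R y ∧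
      a⁻¹ * y⁻¹ * a * y ∈ cm R y := by
  have h1 : a * y * a⁻¹ * y⁻¹ ∈ cm R y := Subgroup.commutator_mem_commutator ha (Subgroup.mem_zpowers y)
  have h2 : a⁻¹ * y⁻¹ * a⁻¹⁻¹ * y⁻¹⁻¹ ∈ cm R y :=
    Subgroup.commutator_mem_commutator (inv_mem ha) (inv_mem (Subgroup.mem_zpowers y))
  rw [inv_inv, inv_inv] at h2
  refine ⟨h1, ?_, ?_, h2⟩
  · simpa [mul_assoc] using inv_mem h1
  · simpa [mul_assoc] using inv_mem h2

theorem cm_eq_bot_iff {R : Subgroup G} {y : G} : cm R y = ⊥ ↔ ∀ a ∈ R, Commute a y := by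
  refine ⟨fun h a ha => ?_, fun h => le_bot_iff.1 (cm_le_of (Subgroup.mem_normalizer_fintype fun a ha => ?_)
    fun a ha => ?_)⟩
  · have := (comm_mem_cm y ha).1
    rw [h, Subgroup.mem_bot] at this
    exact commutatorElement_eq_one_iff_commute.1 this
  · rw [SetLike.mem_coe, Subgroup.mem_bot] at ha ⊢
    rw [ha, mul_one, mul_inv_cancel]
  · exact Subgroup.mem_bot.2 (commutatorElement_eq_one_iff_commute.2 (h a ha))

theorem mem_nor_of_cm_le {P M : Subgroup G} {y : G} (hP : P ≤ M) (h : cm M y ≤ P) : y ∈ nor P :=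
  Subgroup.mem_normalizer_fintype fun a ha => by
    have := mul_mem (h (comm_mem_cm y (hP ha)).2.1) ha
    rwa [inv_mul_cancel_right] at this

theorem cj_cm (g : G) (R : Subgroup G) (y : G) : cj g (cm R y) = cm (cj g R) (g * y * g⁻¹) := by
  rw [cj, cm, Subgroup.map_commutator, MonoidHom.map_zpowers]
  rfl

theorem nor_cj (g : G) (R : Subgroup G) : nor (cj g R) = cj g (nor R) :=
  (Subgroup.map_equiv_normalizer_eq R (MulAut.conj g)).symm

theorem cj_eq_self_iff {g : G} {R : Subgroup G} : cj g R = R ↔ g ∈ nor R := by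
  rw [Subgroup.mem_normalizer_iff'', Subgroup.ext_iff]
  exact forall_congr' fun a => by rw [mem_cj]; exact iff_comm

theorem cj_cj (g h : G) (R : Subgroup G) : cj g (cj h R) = cj (g * h) R := by
  ext a
  simp only [mem_cj, mul_inv_rev, mul_assoc]

theorem card_cj (g : G) (R : Subgroup G) : Nat.card (cj g R) = Nat.card R :=
  Subgroup.card_map_of_injective (MulAut.conj g).injective

theorem CopAux.fix (hp : p.Prime) (hq : q.Prime) (hpq : p ≠ q) {R : Subgroup G} {y y' : G}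
    (hR : IsPGroup q R) (hyp : y ^ p = 1) (hyp' : y' ^ p = 1) (hy : y ∈ nor R)
    (h : y⁻¹ * y' ∈ R) : ∃ t ∈ R, y' = t⁻¹ * y * t := by
  classical
  have := Fact.mk hp
  have := Fact.mk hq
  have := Fintype.ofFinite R
  let f : Function.End R := fun t => ⟨y⁻¹ * t * y', by
    have := mul_mem ((Subgroup.mem_normalizer_iff''.1 hy _).1 t.2) h
    rwa [mul_assoc, mul_inv_cancel_left] at this⟩
  have k : ∀ (n : ℕ) (t : R), ((f ^ n) t : G) = (y ^ n)⁻¹ * t * y' ^ n := fun n => by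
    induction n with
    | zero => intro t; simp [Function.End.one_def]
    | succ n ih =>
      intro t
      rw [pow_succ']
      change y⁻¹ * ((f ^ n) t : G) * y' = _
      rw [ih, pow_succ', pow_succ]
      group
  have m := Equiv.Perm.card_fixedPoints_modEq (f := f) (p := p) (n := 1) (by
    rw [pow_one]
    exact funext fun t => Subtype.ext (by rw [k, hyp, hyp', inv_one, one_mul, mul_one]; rfl))
  obtain ⟨n, hn⟩ := hR.exists_card_eq
  rw [← Nat.card_eq_fintype_card, hn] at m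
  obtain ⟨t, ht⟩ : Nonempty f.fixedPoints := Fintype.card_pos_iff.1 (Nat.pos_of_ne_zero fun e => by
    rw [e] at m
    exact hpq ((Nat.prime_dvd_prime_iff_eq hp hq).1 (hp.dvd_of_dvd_pow ((Nat.modEq_zero_iff_dvd).1 m))))
  have e : y⁻¹ * t * y' = t := congrArg Subtype.val ht
  refine ⟨t, t.2, ?_⟩
  calc y' = (t : G)⁻¹ * y * (y⁻¹ * t * y') := by group
    _ = _ := by rw [e]

theorem cop_decomp (hp : p.Prime) (hq : q.Prime) (hpq : p ≠ q) {R : Subgroup G} {y : G}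
    (hR : IsPGroup q R) (hyp : y ^ p = 1) (hy : y ∈ nor R) {r : G} (hr : r ∈ R) :
    ∃ a ∈ cm R y, ∃ c ∈ R, Commute c y ∧ r = a * c := by
  obtain ⟨t, ht, e⟩ := CopAux.fix hp hq hpq (y' := r * y * r⁻¹) (hR.to_le (cm_le hy)) hyp
    (by rw [conj_pow, hyp, mul_one, mul_inv_cancel]) (mem_nor_cm R y)
    (by simpa [mul_assoc] using (comm_mem_cm y (inv_mem hr)).2.2.1)
  refine ⟨t⁻¹, inv_mem ht, t * r, mul_mem (cm_le hy ht) hr, ?_, by group⟩
  calc t * r * y = t * (r * y * r⁻¹) * r := by group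
    _ = y * (t * r) := by rw [e]; group

theorem cop_cm_cm (hp : p.Prime) (hq : q.Prime) (hpq : p ≠ q) {R : Subgroup G} {y : G}
    (hR : IsPGroup q R) (hyp : y ^ p = 1) (hy : y ∈ nor R) : cm (cm R y) y = cm R y := by
  refine le_antisymm (cm_le (mem_nor_cm R y)) (cm_le_of (mem_nor_cm _ y) fun r hr => ?_)
  obtain ⟨a, ha, c, -, e, rfl⟩ := cop_decomp hp hq hpq hR hyp hy hr
  have := (comm_mem_cm y ha).1
  rwa [show a * y * a⁻¹ * y⁻¹ = a * c * y * (a * c)⁻¹ * y⁻¹ by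
    rw [mul_assoc a c y, e.eq]; group] at this

theorem cop_conj (hp : p.Prime) (hq : q.Prime) (hpq : p ≠ q) {R : Subgroup G} {y y' : G}
    (hR : IsPGroup q R) (hyp : y ^ p = 1) (hyp' : y' ^ p = 1) (hy : y ∈ nor R)
    (h : y⁻¹ * y' ∈ R) : ∃ t ∈ cm R y, y' = t⁻¹ * y * t := by
  obtain ⟨t, ht, e⟩ := CopAux.fix hp hq hpq hR hyp hyp' hy h
  obtain ⟨a, ha, c, -, e', e''⟩ := cop_decomp hp hq hpq hR hyp hy (inv_mem ht)
  refine ⟨a⁻¹, inv_mem ha, ?_⟩
  rw [e, ← inv_inv t, e'', inv_inv, inv_inv, mul_assoc a c y, e'.eq]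
  group

end Cfsg.Agent.DT
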