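import Cfsg.Agent.DT.LA

set_option autoImplicit false

namespace Cfsg.Agent.DT

variable {G : Type*} [Group G] [Finite G] {p q : ℕ} {x : G}

theorem Ctx.d0 (C : Ctx p q x) {Q R : Subgroup G} (h : Blk q x Q) {y : G} (hy : Pt x Q y)
    (hR : IsPGroup q R) (hyR : y ∈ nor R) {z : G} (hz : z ∈ Zb x Q) (hz1 : z ≠ 1) (hzR : z ∈ R) :
    R ≤ nor Q := by
  by_cases hc : cm R y = ⊥
  · rw [cm_eq_bot_iff] at hc
    by_contra hne
    obtain ⟨g, hg, hg0, hg1⟩ := nor_grow C.qp hR (inf_le_left : R ⊓ nor Q ≤ R)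
      (fun e => hne (e ▸ inf_le_right))
    refine hg1 ⟨hg, cj_eq_self_iff.1 ?_⟩
    by_contra hne'
    have hy' := hy.cj g
    rw [(hc g hg).eq, mul_inv_cancel_right] at hy'
    have hz' : g * z * g⁻¹ ∈ Zb x (cj g Q) := by
      rw [zb_cj, mem_cj]
      simpa [mul_assoc] using hz
    have hz0 : z ∈ R ⊓ nor Q := ⟨hzR, Subgroup.le_normalizer (zb_le x Q hz)⟩
    have e := C.la (h.cj g) h hne' hy' hy hz' ((mem_nor.1 hg0 z).1 hz0).2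
    exact hz1 (by simpa using e)
  · obtain ⟨Q3, h3, hy3, hR3, -⟩ := C.blk_of hy.1 hR hyR hc
    by_cases e : Q = Q3
    · exact e ▸ hR3
    · exact absurd (C.la h h3 e hy hy3 hz (hR3 hzR)) hz1

theorem Ctx.d0_loc (C : Ctx p q x) {Q L : Subgroup G} (h : Blk q x Q) {y : G} (hy : Pt x Q y)
    (hL : L ≠ ⊤) (hyL : y ∈ L) {z : G} (hz : z ∈ Zb x Q) (hz1 : z ≠ 1) (hzL : z ∈ L) :
    cm L y ≤ Q ∧ (∀ y', IsConj x y' → y' ∈ L → y' ∈ nor Q) ∧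
      ∀ P : Subgroup G, IsPGroup q P → P ≤ L → z ∈ P → P ≤ nor Q := by
  have hθ := C.loc L y hL hyL hy.1
  have hθL : cm L y ≤ L := cm_le (Subgroup.le_normalizer hyL)
  have key : ∀ P : Subgroup G, IsPGroup q P → P ≤ L → z ∈ P → P ⊔ cm L y ≤ nor Q := fun P hP hPL hzP =>
    C.d0 h hy (sup_pgroup hP hθ (hPL.trans (le_nor_cm L y)))
      (mem_nor_of_cm_le (sup_le hPL hθL) le_sup_right) hz hz1 (Subgroup.mem_sup_left hzP)
  have h1 : cm L y ≤ nor Q := le_sup_right.trans (key (Subgroup.zpowers z)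
    (h.pgroup.to_le (Subgroup.zpowers_le.2 (zb_le x Q hz))) (Subgroup.zpowers_le.2 hzL) (Subgroup.mem_zpowers z))
  have h2 : cm L y ≤ Q := by
    rw [← C.loc_cm_cm hL hy.1 hyL]
    exact (Subgroup.commutator_mono h1 le_rfl).trans (C.blk_cm_nor h hy).le
  refine ⟨h2, fun y' hy' hy'L => ?_, fun P hP hPL hzP => le_sup_left.trans (key P hP hPL hzP)⟩
  obtain ⟨t, ht, rfl⟩ := C.loc_pts hL hy.1 hyL hy' hy'L
  exact mul_mem (mul_mem (inv_mem (h1 ht)) hy.2) (h1 ht)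

theorem Ctx.cw (C : Ctx p q x) {Q1 Q2 W : Subgroup G} (h1 : Blk q x Q1) (h2 : Blk q x Q2)
    {y : G} (hy1 : Pt x Q1 y) (hy2 : Pt x Q2 y) (hW : W ≤ Q1 ⊓ Q2) (hW1 : W ≠ ⊥)
    (hyW : y ∈ nor W) : Q1 ⊓ nor W ≤ (Q1 ⊓ Q2) ⊔ Zb x Q1 := by
  have hL : nor W ≠ ⊤ := C.nor_ne_top (h1.pgroup.to_le (hW.trans inf_le_left)) hW1
  have key : ∀ Q : Subgroup G, Blk q x Q → Pt x Q y → W ≤ Q → cm (nor W) y ≤ Q := fun Q h hy hWQ => by
    obtain ⟨z, hz, hz1⟩ := C.zb_ne_bot h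
    refine (C.d0_loc h hy hL hyW hz hz1 (Subgroup.mem_normalizer_fintype fun a ha => ?_)).1
    rw [(C.zb_central h hz (hWQ ha)).eq, mul_inv_cancel_right]
    exact ha
  have k1 := key Q1 h1 hy1 (hW.trans inf_le_left)
  have k2 := key Q2 h2 hy2 (hW.trans inf_le_right)
  intro g hg
  obtain ⟨a, ha, c, -, hc, e⟩ := C.loc_decomp hL hy1.1 hyW hg.2
  have hg1 : a * c ∈ Q1 := e ▸ hg.1
  rw [e]
  exact Subgroup.mul_mem_sup ⟨k1 ha, k2 ha⟩ ((C.zb_iff h1 hy1).2 ⟨(mul_mem_cancel_left (k1 ha)).1 hg1, hc⟩)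

theorem D0Aux.mutual (C : Ctx p q x) {Q1 Q2 : Subgroup G} (h1 : Blk q x Q1) (h2 : Blk q x Q2)
    (h : Q2 ≤ nor Q1) (h' : Q1 ≤ nor Q2) : Q1 = Q2 := by
  have hP : IsPGroup q (Q1 ⊔ Q2 : Subgroup G) := sup_pgroup h1.pgroup h2.pgroup h'
  have hL : nor (Q1 ⊔ Q2) ≠ ⊤ := C.nor_ne_top hP fun e => h1.1 (le_bot_iff.1 (e ▸ le_sup_left))
  obtain ⟨y, hy⟩ := h1.exists_pt
  have hle : nor (Q1 ⊔ Q2) ≤ nor Q1 := C.b8 h1 hy hL (le_sup_left.trans Subgroup.le_normalizer)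
    (mem_nor_of_cm_le (sup_le Subgroup.le_normalizer h) ((C.blk_cm_nor h1 hy).le.trans le_sup_left))
  exact (C.blk_eq_of_pts h2 h1 fun y' hy' => hle
    (mem_nor_of_cm_le (sup_le h' Subgroup.le_normalizer) ((C.blk_cm_nor h2 hy').le.trans le_sup_right))).symm

theorem Ctx.uq (C : Ctx p q x) {Q1 Q2 : Subgroup G} (h1 : Blk q x Q1) (h2 : Blk q x Q2)
    (h : Q2 ≤ nor Q1) : Q1 = Q2 := by
  refine D0Aux.mutual C h1 h2 h ?_
  by_contra hne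
  have hP : IsPGroup q (Q2 ⊔ Q1 : Subgroup G) := sup_pgroup h2.pgroup h1.pgroup h
  obtain ⟨g, hg, hg0, hg1⟩ := nor_grow C.qp hP (inf_le_left : (Q2 ⊔ Q1) ⊓ nor Q2 ≤ Q2 ⊔ Q1)
    (fun e => hne (le_sup_right.trans (e ▸ inf_le_right)))
  have h0 : Q2 ≤ (Q2 ⊔ Q1) ⊓ nor Q2 := le_inf le_sup_left Subgroup.le_normalizer
  have e := cj_eq_self_iff.2 hg0
  refine hg1 ⟨hg, cj_eq_self_iff.1 (D0Aux.mutual C (h2.cj g) h2 ?_ ?_)⟩
  · rw [nor_cj]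
    exact h0.trans (e.ge.trans (Subgroup.map_mono inf_le_right))
  · exact (Subgroup.map_mono h0).trans (e.le.trans inf_le_right)

end Cfsg.Agent.DT
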