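import Mathlib

set_option autoImplicit false

namespace Cfsg.Agent.DT

variable {G : Type*} [Group G]

/-- `[R, y]`. -/
abbrev cm (R : Subgroup G) (y : G) : Subgroup G := ⁅R, Subgroup.zpowers y⁆

/-- normalizer of a subgroup. -/
abbrev nor (R : Subgroup G) : Subgroup G := Subgroup.normalizer (R : Set G)

/-- centralizer of an element. -/
abbrev cen (t : G) : Subgroup G := Subgroup.centralizer ({t} : Set G)

/-- the conjugate `g Q g⁻¹`. -/
abbrev cj (g : G) (Q : Subgroup G) : Subgroup G := Q.map (MulAut.conj g).toMonoidHom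

/-- any conjugate `y` of `x` is congruent to `x` modulo an `x`-invariant `q`-subgroup. -/
def H1 (q : ℕ) (x : G) : Prop :=
  ∀ y : G, IsConj x y → ∃ R : Subgroup G, IsPGroup q R ∧ x ∈ nor R ∧ x⁻¹ * y ∈ R

/-- for an `x`-invariant `q`-subgroup `R` and `Q = [R,x]`: `C_Q(x)` is central in `Q` and contains
all commutators and `q`-th powers. -/
def H2 (q : ℕ) (x : G) : Prop :=
  ∀ R : Subgroup G, IsPGroup q R → x ∈ nor R → ∀ a ∈ cm R x,
    Commute (a ^ q) x ∧ (∀ b ∈ cm R x, Commute (a * b * a⁻¹ * b⁻¹) x) ∧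
      (Commute a x → ∀ b ∈ cm R x, Commute a b)

/-- minimal counterexample context. -/
structure Ctx (p q : ℕ) (x : G) : Prop where
  pp : p.Prime
  qp : q.Prime
  p2 : p ≠ 2
  pq : p ≠ q
  ord : orderOf x = p
  h1 : H1 q x
  h2 : H2 q x
  opp : ∀ N : Subgroup G, N.Normal → (Nat.card N).Coprime p → N = ⊥
  loc : ∀ (L : Subgroup G) (y : G), L ≠ ⊤ → y ∈ L → IsConj x y → IsPGroup q (cm L y)
  gen : Subgroup.closure {y : G | IsConj x y} = ⊤
  bad : ¬ IsPGroup q (cm (⊤ : Subgroup G) x)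

/-- a block: `Q = [S,y] ≠ 1` with `S` a Sylow `q`-subgroup normalized by the conjugate `y` of `x`. -/
def Blk (q : ℕ) (x : G) (Q : Subgroup G) : Prop :=
  Q ≠ ⊥ ∧ ∃ (S : Sylow q G) (y : G), IsConj x y ∧ y ∈ nor (S : Subgroup G) ∧ Q = cm (S : Subgroup G) y

/-- `y` is a point of the block `Q`. -/
def Pt (x : G) (Q : Subgroup G) (y : G) : Prop := IsConj x y ∧ y ∈ nor Q

/-- the elements of `Q` centralizing all points of `Q`. -/
def Zb (x : G) (Q : Subgroup G) : Subgroup G := Q ⊓ Subgroup.centralizer {y : G | Pt x Q y}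

/-- parallel blocks. -/
def Par (q : ℕ) (x : G) (Q1 Q2 : Subgroup G) : Prop :=
  Blk q x Q1 ∧ Blk q x Q2 ∧ Q1 ≠ Q2 ∧ ∃ z ∈ Zb x Q1, z ≠ 1 ∧ z ∈ nor Q2

/-- `[Q,h] Z`. -/
abbrev Dh (x : G) (Q : Subgroup G) (h : G) : Subgroup G := cm Q h ⊔ Zb x Q

/-- `u = a * d` with `a ∈ Q`, `d ∈ N(Q) ∩ C(y)` centralizing all `y`-conjugates of `a`. -/
def Dec (Q : Subgroup G) (y u a d : G) : Prop :=
  a ∈ Q ∧ d ∈ nor Q ∧ Commute d y ∧ u = a * d ∧ ∀ i : ℕ, Commute d (y ^ i * a * (y ^ i)⁻¹)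

/-- some `⟨y⟩`-conjugate of `Zb Q` meets `N(Q)` trivially. -/
def NAb (x : G) (Q : Subgroup G) (y : G) : Prop :=
  ∃ i : ℕ, ∀ z ∈ Zb x Q, y ^ i * z * (y ^ i)⁻¹ ∈ nor Q → z = 1

/-- all `⟨y⟩`-conjugates of `Zb Q` centralize `Zb Q`. -/
def Ab (x : G) (Q : Subgroup G) (y : G) : Prop :=
  ∀ i : ℕ, ∀ z ∈ Zb x Q, ∀ w ∈ Zb x Q, Commute (y ^ i * z * (y ^ i)⁻¹) w

theorem mem_cj {g a : G} {Q : Subgroup G} : a ∈ cj g Q ↔ g⁻¹ * a * g ∈ Q := by
  constructor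
  · rintro ⟨b, hb, rfl⟩
    simpa [mul_assoc] using hb
  · intro h
    exact ⟨g⁻¹ * a * g, h, by simp [mul_assoc]⟩

theorem mem_cen {t a : G} : a ∈ cen t ↔ Commute a t := by
  rw [Subgroup.mem_centralizer_singleton_iff]; rfl

theorem mem_nor {g : G} {R : Subgroup G} : g ∈ nor R ↔ ∀ a, a ∈ R ↔ g * a * g⁻¹ ∈ R :=
  Subgroup.mem_normalizer_iff

theorem zb_le (x : G) (Q : Subgroup G) : Zb x Q ≤ Q := inf_le_left

theorem mem_zb {x z : G} {Q : Subgroup G} :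
    z ∈ Zb x Q ↔ z ∈ Q ∧ ∀ y, Pt x Q y → Commute z y := by
  unfold Zb
  rw [Subgroup.mem_inf, Subgroup.mem_centralizer_iff]
  exact and_congr Iff.rfl ⟨fun h y hy => (h y hy).symm, fun h y hy => (h y hy).symm⟩

end Cfsg.Agent.DT
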