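import Cfsg.Agent.DT.Defs

set_option autoImplicit false

namespace Cfsg.Agent.DT

variable {G : Type*} [Group G]

/-- hypotheses of Lemma F: an involution `t` centralizing the common point `y` of two blocks,
`Zb Q` and a nontrivial element of `Zb Q5`. -/
structure FH (x : G) (Q Q5 : Subgroup G) (y t : G) : Prop where
  b : Blk 2 x Q
  b5 : Blk 2 x Q5
  ne : Q ≠ Q5
  pt : Pt x Q y
  pt5 : Pt x Q5 y
  tM : t ∈ nor Q
  t1 : t ≠ 1
  t2 : t * t = 1
  ty : Commute t y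
  tZ : ∀ z ∈ Zb x Q, Commute t z
  t5 : ∃ z ∈ Zb x Q5, z ≠ 1 ∧ Commute t z

end Cfsg.Agent.DT
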