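import Cfsg.Agent.DT.D0

set_option autoImplicit false

namespace Cfsg.Agent.DT

variable {G : Type*} [Group G] [Finite G] {p q : ℕ} {x : G}

theorem Ctx.cent_lift (C : Ctx p q x) {Q : Subgroup G} (h : Blk q x Q) {y : G} (hy : Pt x Q y)
    {d : G} (hd : d ∈ nor Q) (hdy : Commute d y) {a : G} (ha : a ∈ Q)
    (hc : d * a * d⁻¹ * a⁻¹ ∈ Zb x Q) :
    ∃ a' ∈ Q, ∃ z ∈ Zb x Q, a = a' * z ∧ ∀ i : ℕ, Commute d (y ^ i * a' * (y ^ i)⁻¹) := by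
  have yp : y ^ p = 1 := by rw [← C.ord_pt hy.1, pow_orderOf_eq_one]
  have zy : ∀ {z}, z ∈ Zb x Q → Commute z y := fun hz => ((C.zb_iff h hy).1 hz).2
  have yQ : ∀ {b}, b ∈ Q → y * b * y⁻¹ ∈ Q := fun hb => (mem_nor.1 hy.2 _).1 hb
  let W : Subgroup G :=
    { carrier := {b | b ∈ Q ∧ d * b * d⁻¹ * b⁻¹ ∈ Zb x Q}
      one_mem' := ⟨one_mem _, by simpa using one_mem (Zb x Q)⟩
      mul_mem' := fun {b c} hb hc => ⟨mul_mem hb.1 hc.1, by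
        have e := (C.zb_central h hc.2 hb.1).eq
        have : d * (b * c) * d⁻¹ * (b * c)⁻¹ = d * b * d⁻¹ * b⁻¹ * (b * (d * c * d⁻¹ * c⁻¹)) * b⁻¹ := by group
        rw [this, ← e, ← mul_assoc, mul_inv_cancel_right]
        exact mul_mem hb.2 hc.2⟩
      inv_mem' := fun {b} hb => ⟨inv_mem hb.1, by
        have e := (C.zb_central h (inv_mem hb.2) hb.1).eq
        have : d * b⁻¹ * d⁻¹ * b⁻¹⁻¹ = b⁻¹ * ((d * b * d⁻¹ * b⁻¹)⁻¹ * b) := by group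
        rw [this, e, inv_mul_cancel_left]
        exact inv_mem hb.2⟩ }
  have dy : ∀ b, d * (y * b * y⁻¹) * d⁻¹ = y * (d * b * d⁻¹) * y⁻¹ := fun b => by
    calc _ = d * y * b * (d * y)⁻¹ := by group
      _ = _ := by rw [hdy.eq]; group
  have yW : y ∈ nor W := ZBAux.nor_of fun b hb => ⟨yQ hb.1, by
    have : y * (d * b * d⁻¹) * y⁻¹ * (y * b * y⁻¹)⁻¹ = y * (d * b * d⁻¹ * b⁻¹) * y⁻¹ := by group
    rw [dy, this, ← (zy hb.2).eq, mul_inv_cancel_right]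
    exact hb.2⟩
  have k : cm W y ≤ cen d := cm_le_of (ZBAux.nor_of fun b hb => mem_cen.2 (by
      have := dy b
      rw [← (mem_cen.1 hb).eq, mul_inv_cancel_right, mul_inv_eq_iff_eq_mul] at this
      exact this.symm)) fun b hb => mem_cen.2 (by
    have e1 := (zy hb.2).inv_left.inv_right.eq
    have e2 := (C.zb_central h hb.2 (mul_mem hb.1 (yQ (inv_mem hb.1)))).eq
    have : d * (b * y * b⁻¹ * y⁻¹) * d⁻¹ = b * y * b⁻¹ * y⁻¹ := by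
      calc _ = d * b * d⁻¹ * (d * (y * b⁻¹ * y⁻¹) * d⁻¹) := by group
        _ = d * b * d⁻¹ * b⁻¹ * (b * y * b⁻¹) * ((d * b * d⁻¹ * b⁻¹)⁻¹ * y⁻¹) := by rw [dy]; group
        _ = d * b * d⁻¹ * b⁻¹ * (b * (y * b⁻¹ * y⁻¹)) * (d * b * d⁻¹ * b⁻¹)⁻¹ := by rw [e1]; group
        _ = _ := by rw [e2]; group
    exact (mul_inv_eq_iff_eq_mul.1 this).symm)
  obtain ⟨a', h1, z, h2, h3, h4⟩ := cop_decomp C.pp C.qp C.pq (R := W) (h.pgroup.to_le fun _ hb => hb.1) yp yW ⟨ha, hc⟩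
  exact ⟨a', (cm_le yW h1).1, z, (C.zb_iff h hy).2 ⟨h2.1, h3⟩, h4, fun i =>
    (mem_cen.1 (k ((mem_nor.1 (pow_mem (mem_nor_cm W y) i) _).1 h1))).symm⟩

theorem Ctx.cent_lift' (C : Ctx p q x) {Q : Subgroup G} (h : Blk q x Q) {y : G} (hy : Pt x Q y)
    {d : G} (hd : d ∈ nor Q) (hdy : Commute d y) (hdZ : ∀ z ∈ Zb x Q, Commute d z) {a : G}
    (ha : a ∈ Q) (hc : d * a * d⁻¹ * a⁻¹ ∈ Zb x Q) : Commute d a := by
  obtain ⟨a', -, z, hz, rfl, k⟩ := C.cent_lift h hy hd hdy ha hc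
  exact (show Commute d a' by simpa using k 0).mul_right (hdZ z hz)

theorem Ctx.zb_sq (C : Ctx p 2 x) {Q : Subgroup G} (h : Blk 2 x Q) {z : G} (hz : z ∈ Zb x Q) :
    z * z = 1 := by
  rw [← pow_two]; exact C.zb_pow h hz

theorem Ctx.sq_mem_zb (C : Ctx p 2 x) {Q : Subgroup G} (h : Blk 2 x Q) {a : G} (ha : a ∈ Q) :
    a * a ∈ Zb x Q := by
  rw [← pow_two]; exact C.pow_mem_zb h ha

theorem Ctx.dec (C : Ctx p 2 x) {Q : Subgroup G} (h : Blk 2 x Q) {y : G} (hy : Pt x Q y) {u : G}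
    (hu : u ∈ nor Q) (hu2 : u * u = 1) : ∃ a d : G, Dec Q y u a d := by
  obtain ⟨a, ha, d, hd, dy, rfl⟩ := C.blk_decomp h hy hu
  have e : d * d = (a * (d * a * d⁻¹))⁻¹ := by
    rw [eq_inv_iff_mul_eq_one, ← mul_left_inj (d * d), mul_assoc, show a * (d * a * d⁻¹) * (d * d) = a * d * (a * d) by group,
      hu2, mul_one, one_mul]
  have dz : d * d ∈ Zb x Q :=
    (C.zb_iff h hy).2 ⟨e ▸ inv_mem (mul_mem ha ((mem_nor.1 hd _).1 ha)), dy.mul_left dy⟩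
  obtain ⟨a', h1, z, hz, h2, k⟩ := C.cent_lift h hy hd dy ha (by
    have e2 := (C.zb_central h dz ha).inv_left.inv_right.eq
    have : d * a * d⁻¹ * a⁻¹ = a⁻¹ * ((d * d)⁻¹ * a⁻¹) := by rw [e]; group
    rw [this, e2, ← mul_assoc, ← mul_inv_rev]
    exact mul_mem (inv_mem (C.sq_mem_zb h ha)) (inv_mem dz))
  exact ⟨a', z * d, h1, mul_mem (Subgroup.le_normalizer (zb_le x Q hz)) hd, ((C.zb_iff h hy).1 hz).2.mul_left dy,
    by rw [h2, mul_assoc], fun i =>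
      (C.zb_central h hz ((mem_nor.1 (pow_mem hy.2 i) _).1 h1)).mul_left (k i)⟩

theorem Dec.facts {Q : Subgroup G} {y u a d : G} (h : Dec Q y u a d) (hu2 : u * u = 1) :
    Commute d a ∧ Commute u a ∧ Commute u d ∧ d * d = (a * a)⁻¹ := by
  obtain ⟨-, -, -, rfl, k⟩ := h
  have c : Commute d a := by simpa using k 0
  refine ⟨c, (Commute.refl a).mul_left c, c.symm.mul_left (Commute.refl d), ?_⟩
  rw [eq_inv_iff_mul_eq_one, ← hu2, c.mul_mul_mul_comm, c.eq]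

theorem Ctx.sq_one (C : Ctx p 2 x) {Q : Subgroup G} (h : Blk 2 x Q) {y : G} (hy : Pt x Q y) {a : G}
    (ha : a ∈ Q) (hc : ∀ i : ℕ, Commute a (y ^ i * a * (y ^ i)⁻¹)) : a * a = 1 := by
  have yp : y ^ p = 1 := by rw [← C.ord_pt hy.1, pow_orderOf_eq_one]
  have hc' : ∀ g ∈ Subgroup.zpowers y, Commute a (g * a * g⁻¹) := fun g hg => by
    obtain ⟨i, rfl⟩ := (mem_powers_iff_mem_zpowers.2 hg : g ∈ Submonoid.powers y)
    exact hc i
  set S : Set G := {w | ∃ g ∈ Subgroup.zpowers y, w = g * a * g⁻¹} with hS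
  set A := Subgroup.closure S with hA
  have AQ : A ≤ Q := (Subgroup.closure_le _).2 (by
    rintro _ ⟨g, hg, rfl⟩
    exact (mem_nor.1 (Subgroup.zpowers_le.2 hy.2 hg) _).1 ha)
  have A1 : A ≤ Subgroup.centralizer S := (Subgroup.closure_le _).2 (by
    rintro _ ⟨g, hg, rfl⟩ _ ⟨k, hk, rfl⟩
    have := (hc' (k⁻¹ * g) (mul_mem (inv_mem hk) hg)).eq
    calc _ = k * (a * (k⁻¹ * g * a * (k⁻¹ * g)⁻¹)) * k⁻¹ := by group
      _ = _ := by rw [this]; group)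
  have A2 : ∀ b ∈ A, ∀ c ∈ A, Commute b c := fun b hb c hc =>
    ((Subgroup.closure_le (Subgroup.centralizer (A : Set G))).2 (fun w hw c hc => (A1 hc w hw).symm) hc b hb :)
  have yA : y ∈ nor A := ZBAux.nor_of fun b hb =>
    (Subgroup.closure_le (A.comap (MulAut.conj y).toMonoidHom)).2 (by
      rintro _ ⟨g, hg, rfl⟩
      exact Subgroup.subset_closure ⟨y * g, mul_mem (Subgroup.mem_zpowers y) hg, by simp [mul_assoc]⟩) hb
  let K : Subgroup G :=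
    { carrier := {b | b ∈ A ∧ b ^ 2 = 1}
      one_mem' := ⟨one_mem _, one_pow _⟩
      mul_mem' := fun {b c} hb hc => ⟨mul_mem hb.1 hc.1, by rw [(A2 b hb.1 c hc.1).mul_pow, hb.2, hc.2, one_mul]⟩
      inv_mem' := fun {b} hb => ⟨inv_mem hb.1, by rw [inv_pow, hb.2, inv_one]⟩ }
  have k : cm A y ≤ K := cm_le_of (ZBAux.nor_of fun b hb => ⟨(mem_nor.1 yA _).1 hb.1, by
      rw [conj_pow, hb.2]; simp⟩) fun b hb => by
    have m := (mem_nor.1 yA _).1 (inv_mem hb)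
    rw [show b * y * b⁻¹ * y⁻¹ = b * (y * b⁻¹ * y⁻¹) by group]
    refine ⟨mul_mem hb m, ?_⟩
    rw [(A2 _ hb _ m).mul_pow, conj_pow, inv_pow, ← ((C.zb_iff h hy).1 (C.pow_mem_zb h (AQ hb))).2.inv_left.eq]
    group
  obtain ⟨a', h1, z, h2, h3, h4⟩ := cop_decomp C.pp C.qp C.pq (R := A) (h.pgroup.to_le AQ) yp yA
    (Subgroup.subset_closure ⟨1, one_mem _, by simp⟩ : a ∈ A)
  rw [← pow_two, h4, (A2 _ (k h1).1 _ h2).mul_pow, (k h1).2, C.zb_pow h ((C.zb_iff h hy).2 ⟨AQ h2, h3⟩), one_mul]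

end Cfsg.Agent.DT
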