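import Cfsg.Agent.DT.E1

set_option autoImplicit false

namespace Cfsg.Agent.DT

variable {G : Type*} [Group G] [Finite G] {p q : ℕ} {x : G}

namespace E2Aux

theorem conj_mem (C : Ctx p q x) {Q Q' : Subgroup G} (h : Blk q x Q) (h' : Blk q x Q') {y : G}
    (hy : Pt x Q y) (hy' : Pt x Q' y) {a c g : G} (ha : a ∈ Zb x Q) (ha1 : a ≠ 1) (hc : c ∈ Zb x Q')
    (hg : Commute g y) (hw : Commute (g * c * g⁻¹) a) : g * c * g⁻¹ ∈ Zb x Q := by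
  have m : g * c * g⁻¹ ∈ Zb x (cj g Q') := by
    rw [zb_cj, mem_cj, show g⁻¹ * (g * c * g⁻¹) * g = c by group]
    exact hc
  by_cases e : cj g Q' = Q
  · rwa [e] at m
  · have pt := hy'.cj g
    rw [hg.eq, mul_inv_cancel_right] at pt
    rw [C.la (h'.cj g) h e pt hy m (C.cen_zb_le h ha ha1 (mem_cen.2 hw))]
    exact one_mem _

theorem mem_of (C : Ctx p q x) {Q Q' : Subgroup G} (h : Blk q x Q) (h' : Blk q x Q') {y : G}
    (hy : Pt x Q y) (hy' : Pt x Q' y) {a c g t : G} (ha : a ∈ Zb x Q) (ha1 : a ≠ 1) (hc : c ∈ Zb x Q')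
    (hg : Commute g y) (ht : Commute t a) (e : t * a = g * c * g⁻¹) : t ∈ Zb x Q := by
  have := conj_mem C h h' hy hy' ha ha1 hc hg (e ▸ ht.mul_left (Commute.refl a))
  rw [← e] at this
  exact (Subgroup.mul_mem_cancel_right _ ha).1 this

end E2Aux

theorem Ctx.odd_mul (C : Ctx p 2 x) {Q1 Q2 : Subgroup G} (h1 : Blk 2 x Q1) (h2 : Blk 2 x Q2)
    (hne : Q1 ≠ Q2) {y : G} (hy1 : Pt x Q1 y) (hy2 : Pt x Q2 y) {a b : G} (ha : a ∈ Zb x Q1)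
    (ha1 : a ≠ 1) (hb : b ∈ Zb x Q2) (hb1 : b ≠ 1) : Odd (orderOf (a * b)) := by
  by_contra h
  obtain ⟨t, -, t1, -, ta, tb, hc⟩ :=
    dihedral_even (C.zb_sq h1 ha) (C.zb_sq h2 hb) (Nat.not_odd_iff_even.1 h)
  have le : Subgroup.closure ({a, b} : Set G) ≤ cen y := by
    rw [Subgroup.closure_le]
    rintro _ (rfl | rfl)
    · exact mem_cen.2 ((mem_zb.1 ha).2 y hy1)
    · exact mem_cen.2 ((mem_zb.1 hb).2 y hy2)
  refine t1 ?_
  rcases hc with ⟨⟨g, hg, e⟩, g', hg', e'⟩ | ⟨⟨g, hg, e⟩, g', hg', e'⟩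
  · exact C.zb_ti h1 h2 hne (E2Aux.mem_of C h1 h1 hy1 hy1 ha ha1 ha (mem_cen.1 (le hg)) ta e)
      (E2Aux.mem_of C h2 h2 hy2 hy2 hb hb1 hb (mem_cen.1 (le hg')) tb e')
  · exact C.zb_ti h1 h2 hne (E2Aux.mem_of C h1 h2 hy1 hy2 ha ha1 hb (mem_cen.1 (le hg)) ta e)
      (E2Aux.mem_of C h2 h1 hy2 hy1 hb hb1 ha (mem_cen.1 (le hg')) tb e')

theorem Ctx.exists_par (C : Ctx p 2 x) : ∃ Q1 Q2 : Subgroup G, Par 2 x Q1 Q2 := by
  obtain ⟨Q, hQ, -⟩ := C.exists_blk (IsConj.refl x)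
  obtain ⟨z, hz, z1⟩ := C.zb_ne_bot hQ
  obtain ⟨c, hc, cM⟩ := C.exists_out hQ
  have z2 := C.zb_sq hQ hz
  have hc' : IsConj x (z * c * z⁻¹) := hc.trans (isConj_iff.2 ⟨z, rfl⟩)
  have ne : c ≠ z * c * z⁻¹ := fun e =>
    cM (C.cen_zb_le hQ hz z1 (mem_cen.2 (eq_mul_inv_iff_mul_eq.1 e)))
  obtain ⟨Q0, h0, p1, p2⟩ := C.two_pts hc hc' ne
  obtain ⟨L, hL⟩ : ∃ L : Subgroup G, L = Subgroup.closure ({c, z * c * z⁻¹} : Set G) := ⟨_, rfl⟩
  have cL : c ∈ L := hL ▸ Subgroup.subset_closure (Or.inl rfl)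
  have cL' : z * c * z⁻¹ ∈ L := hL ▸ Subgroup.subset_closure (Or.inr rfl)
  have Lt : L ≠ ⊤ := fun e => C.blk_nor_ne_top h0 (top_le_iff.1 (by
    rw [← e, hL, Subgroup.closure_le]
    rintro _ (rfl | rfl)
    · exact p1.2
    · exact p2.2))
  obtain ⟨t, ht, et⟩ := C.loc_pts Lt hc cL hc' cL'
  have nb : cm L c ≠ ⊥ := fun e => ne (by
    rw [e, Subgroup.mem_bot] at ht
    rw [et, ht, inv_one, one_mul, mul_one])
  have tL : t ∈ L := cm_le (Subgroup.le_normalizer cL) ht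
  have e1 : cm L (z * c * z⁻¹) = cm L c := by
    have := cj_cm t⁻¹ L c
    rw [cj_eq_self_iff.2 (Subgroup.le_normalizer (inv_mem ht)),
      cj_eq_self_iff.2 (Subgroup.le_normalizer (inv_mem tL)), inv_inv, ← et] at this
    exact this.symm
  have zL : cj z L = L := by
    rw [hL, cj, MonoidHom.map_closure, Set.image_pair]
    have : z * (z * c * z⁻¹) * z⁻¹ = c := by
      calc _ = (z * z) * c * (z * z)⁻¹ := by group
        _ = c := by rw [z2, inv_one, one_mul, mul_one]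
    show Subgroup.closure ({z * c * z⁻¹, z * (z * c * z⁻¹) * z⁻¹} : Set G) = _
    rw [this, Set.pair_comm]
  have zt : z ∈ nor (cm L c) := cj_eq_self_iff.1 (by rw [cj_cm, zL, e1])
  have L't : nor (cm L c) ≠ ⊤ := C.nor_ne_top (C.loc L c Lt cL hc) nb
  have cL2 : c ∈ nor (cm L c) := mem_nor_cm L c
  have zle : Subgroup.zpowers z ≤ nor (cm L c) := Subgroup.zpowers_le.2 zt
  have hR : IsPGroup 2 (Subgroup.zpowers z ⊔ cm (nor (cm L c)) c : Subgroup G) :=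
    sup_pgroup (hQ.pgroup.to_le (Subgroup.zpowers_le.2 (zb_le x Q hz))) (C.loc _ c L't cL2 hc)
      (zle.trans (le_nor_cm _ c))
  have cR : c ∈ nor (Subgroup.zpowers z ⊔ cm (nor (cm L c)) c : Subgroup G) :=
    mem_nor_of_cm_le (sup_le zle (cm_le (Subgroup.le_normalizer cL2))) le_sup_right
  have l1 : cm L c ≤ cm (nor (cm L c)) c :=
    (C.loc_cm_cm Lt hc cL).ge.trans (Subgroup.commutator_mono Subgroup.le_normalizer le_rfl)
  have nb' : cm (Subgroup.zpowers z ⊔ cm (nor (cm L c)) c : Subgroup G) c ≠ ⊥ := fun e => nb (le_bot_iff.1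
    ((C.loc_cm_cm Lt hc cL).ge.trans ((Subgroup.commutator_mono (l1.trans le_sup_right) le_rfl).trans e.le)))
  obtain ⟨Q', hQ', pt, le, -⟩ := C.blk_of hc hR cR nb'
  exact ⟨Q, Q', hQ, hQ', fun e => cM (e ▸ pt.2), z, hz, z1,
    le (Subgroup.mem_sup_left (Subgroup.mem_zpowers z))⟩

theorem Ctx.par_symm (C : Ctx p q x) {Q1 Q2 : Subgroup G} (h : Par q x Q1 Q2) : Par q x Q2 Q1 := by
  obtain ⟨b1, b2, ne, z, hz, z1, zn⟩ := h
  exact ⟨b2, b1, ne.symm, C.la_sym b1 b2 (C.zb_ne_bot b2) hz z1 zn⟩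

theorem Ctx.par_disj (C : Ctx p q x) {Q1 Q2 : Subgroup G} (h : Par q x Q1 Q2) {y : G}
    (hy : Pt x Q1 y) : y ∉ nor Q2 := by
  obtain ⟨b1, b2, ne, z, hz, z1, zn⟩ := h
  exact fun hy2 => z1 (C.la b1 b2 ne hy ⟨hy.1, hy2⟩ hz zn)

end Cfsg.Agent.DT
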