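import Cfsg.Agent.DT.E2

set_option autoImplicit false

namespace Cfsg.Agent.DT

variable {G : Type*} [Group G] [Finite G] {p q : ℕ} {x : G}

namespace E3Aux

omit [Finite G] in
theorem zp {d : G} {k : ℕ} (h : d ^ q ^ k = 1) : IsPGroup q (Subgroup.zpowers d) := by
  rintro ⟨_, i, rfl⟩
  refine ⟨k, Subtype.ext ?_⟩
  simp only [SubmonoidClass.coe_pow, OneMemClass.coe_one]
  rw [← zpow_natCast, ← zpow_mul, mul_comm, zpow_mul, zpow_natCast, h, one_zpow]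

theorem cj_zb {Q : Subgroup G} {g a : G} (hg : g ∈ nor Q) (ha : a ∈ Zb x Q) : g * a * g⁻¹ ∈ Zb x Q :=
  (mem_nor.1 (nor_le_nor_zb Q hg) a).1 ha

theorem cc (C : Ctx p q x) {Q1 Q2 : Subgroup G} (h1 : Blk q x Q1) (h2 : Blk q x Q2) (hne : Q1 ≠ Q2) {a b : G}
    (ha : a ∈ Zb x Q1) (ha' : a ∈ nor Q2) (hb : b ∈ Zb x Q2) (hb' : b ∈ nor Q1) : Commute a b := by
  have e : a * b * a⁻¹ * b⁻¹ = 1 := C.zb_ti h1 h2 hne
    (by simpa only [mul_assoc] using mul_mem ha (cj_zb hb' (inv_mem ha))) (mul_mem (cj_zb ha' hb) (inv_mem hb))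
  exact commutatorElement_eq_one_iff_commute.1 e

theorem maps (C : Ctx p 2 x) {Q1 Q2 : Subgroup G} (h1 : Blk 2 x Q1) (h2 : Blk 2 x Q2) {a u : G}
    (ha : a ∈ Zb x Q1) (hu : u ∈ Zb x Q2 ⊓ nor Q1) : a * u * a⁻¹ * u⁻¹ ∈ Zb x Q1 ⊓ nor Q2 := by
  have m := cj_zb hu.2 ha
  refine Subgroup.mem_inf.2 ⟨by simpa only [mul_assoc] using mul_mem ha (cj_zb hu.2 (inv_mem ha)), ?_⟩
  by_cases e : u = 1
  · simp [e]
  refine C.cen_zb_le h2 hu.1 e (mem_cen.2 ?_)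
  have a2 : a⁻¹ = a := inv_eq_of_mul_eq_one_right (C.zb_sq h1 ha)
  have u2 : u⁻¹ = u := inv_eq_of_mul_eq_one_right (C.zb_sq h2 hu.1)
  have c := (C.zb_central h1 ha (zb_le _ _ m)).eq
  have : u * (a * u * a⁻¹ * u⁻¹) = (u * a * u⁻¹ * a) * u := by
    rw [a2, u2]
    simp only [mul_assoc]
  rw [Commute, SemiconjBy, this, ← c, a2]
  simp only [mul_assoc]

theorem inj (C : Ctx p 2 x) {Q1 Q2 : Subgroup G} (h1 : Blk 2 x Q1) (h2 : Blk 2 x Q2) {a : G}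
    (ha : a ∈ Zb x Q1) (ha' : a ∉ nor Q2) : Function.Injective
      fun u : ↥(Zb x Q2 ⊓ nor Q1) => (⟨_, maps C h1 h2 ha u.2⟩ : ↥(Zb x Q1 ⊓ nor Q2)) := by
  intro u v e
  have e' : a * u * a⁻¹ * (u : G)⁻¹ = a * v * a⁻¹ * (v : G)⁻¹ := congrArg Subtype.val e
  by_contra hne
  refine ha' (C.cen_zb_le h2 (mul_mem (inv_mem v.2.1) u.2.1 : (v : G)⁻¹ * u ∈ Zb x Q2)
    (fun k => hne (Subtype.ext (inv_mul_eq_one.1 k).symm)) (mem_cen.2 ?_))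
  have : (v : G)⁻¹ * u * a⁻¹ = (v : G)⁻¹ * a⁻¹ * (a * u * a⁻¹ * (u : G)⁻¹) * u := by group
  refine Commute.inv_left_iff.1 (Eq.symm (this.trans ?_))
  rw [e']
  group

end E3Aux

open E3Aux

theorem Ctx.par_le (C : Ctx p 2 x) {Q1 Q2 : Subgroup G} (h : Par 2 x Q1 Q2) :
    Zb x Q1 ≤ nor Q2 := by
  obtain ⟨-, -, -, u, hu, hu1, huM⟩ := C.par_symm h
  obtain ⟨h1, h2, hne, z, hz, hz1, hzM⟩ := h
  intro a ha
  by_contra ha'
  have c1 := Nat.card_le_card_of_injective _ (inj C h1 h2 ha ha')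
  have n2 : Zb x Q2 ⊓ nor Q1 ≠ Zb x Q2 := fun e => by
    rw [e, ← C.card_zb h1 h2] at c1
    have := Subgroup.eq_of_le_of_card_ge (inf_le_left : Zb x Q1 ⊓ nor Q2 ≤ Zb x Q1) c1
    rw [← this] at ha
    exact ha' ha.2
  obtain ⟨y, hy⟩ := h1.exists_pt
  have u2 := C.zb_sq h2 hu
  obtain ⟨a0, d, hd⟩ := C.dec h1 hy huM u2
  obtain ⟨-, -, f3, f4⟩ := hd.facts u2
  obtain ⟨g1, g2, g3, g4, -⟩ := hd
  have dM : d ∈ nor Q2 := C.cen_zb_le h2 hu hu1 (mem_cen.2 f3.symm)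
  have d4 : d ^ 2 ^ 2 = 1 := by
    have : d ^ 2 ^ 2 = (d * d) * (d * d) := by norm_num [pow_succ, mul_assoc]
    rw [this, f4, ← mul_inv_rev, C.zb_sq h1 (C.sq_mem_zb h1 g1), inv_one]
  have pZ : IsPGroup 2 (Zb x Q2) := h2.pgroup.to_le (zb_le _ _)
  obtain ⟨a', k1, k2, k3⟩ := fix_coset Nat.prime_two (zp d4) pZ inf_le_left n2
    (fun g hg => Subgroup.centralizer_le_normalizer _ fun b hb => (C.zb_central h2 hb.1 (zb_le _ _ hg)).eq)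
    (Subgroup.zpowers_le.2 (nor_le_nor_zb _ dM))
    (Subgroup.zpowers_le.2 (nor_inf_le_nor_inf _ _ ⟨nor_le_nor_zb _ dM, Subgroup.le_normalizer g2⟩))
  have k4 : a' ∉ nor Q1 := fun e => k2 ⟨k1, e⟩
  obtain ⟨e, he⟩ := ((inj C h2 h1 k1 k4).bijective_of_nat_card_le c1).2 ⟨_, k3 d (Subgroup.mem_zpowers d)⟩
  have he' : a' * e * a'⁻¹ * (e : G)⁻¹ = a' * d * a'⁻¹ * d⁻¹ := congrArg Subtype.val he
  have cE : ∀ b ∈ Zb x Q1, b ∈ nor Q2 → Commute b d := fun b hb hb' => by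
    have : d = a0⁻¹ * u := by rw [g4, inv_mul_cancel_left]
    rw [this]
    exact (C.zb_central h1 hb g1).inv_right.mul_right (cc C h1 h2 hne hb hb' hu huM)
  have eZ : (e : G) ∈ Zb x Q1 := e.2.1
  by_cases d1 : (e : G)⁻¹ * d = 1
  · refine ha' (C.cen_zb_le h2 hu hu1 (mem_cen.2 (C.zb_central h1 ha ?_)))
    rw [g4, ← inv_mul_eq_one.1 d1]
    exact mul_mem g1 (zb_le _ _ eZ)
  have e4 : ((e : G)⁻¹ * d) ^ 2 ^ 2 = 1 := by
    have : (e : G) ^ 2 ^ 2 = (e * e) * (e * e) := by norm_num [pow_succ, mul_assoc]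
    rw [(cE e eZ e.2.2).inv_left.mul_pow, d4, inv_pow, this, C.zb_sq h1 eZ]
    simp
  have yL : y ∈ cen ((e : G)⁻¹ * d) := mem_cen.2 (((mem_zb.1 eZ).2 y hy).symm.inv_right.mul_right g3.symm)
  have zL : z ∈ cen ((e : G)⁻¹ * d) :=
    mem_cen.2 ((C.zb_central h1 hz (zb_le _ _ eZ)).inv_right.mul_right (cE z hz hzM))
  have aL : a' ∈ cen ((e : G)⁻¹ * d) := mem_cen.2 (by
    have : (e : G)⁻¹ * d * a'⁻¹ = (e : G)⁻¹ * a'⁻¹ * (a' * d * a'⁻¹ * d⁻¹) * d := by group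
    refine Commute.inv_left_iff.1 (Eq.symm (this.trans ?_))
    rw [← he']
    group)
  have z2 : z ^ 2 ^ 1 = 1 := by rw [pow_one, sq, C.zb_sq h1 hz]
  have pP := (sup_pgroup (zp z2) pZ (Subgroup.zpowers_le.2 (nor_le_nor_zb _ hzM))).to_inf_left
    (K := cen ((e : G)⁻¹ * d))
  exact k4 ((C.d0_loc h1 hy (C.cen_ne_top' d1 e4) yL hz hz1 zL).2.2 _ pP inf_le_right
    ⟨Subgroup.mem_sup_left (Subgroup.mem_zpowers z), zL⟩ ⟨Subgroup.mem_sup_right k1, aL⟩)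

theorem Ctx.par_comm (C : Ctx p 2 x) {Q1 Q2 : Subgroup G} (h : Par 2 x Q1 Q2) {a b : G}
    (ha : a ∈ Zb x Q1) (hb : b ∈ Zb x Q2) : Commute a b :=
  cc C h.1 h.2.1 h.2.2.1 ha (C.par_le h ha) hb (C.par_le (C.par_symm h) hb)

end Cfsg.Agent.DT
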