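import Cfsg.Agent.DT.E1

set_option autoImplicit false

namespace Cfsg.Agent.DT

variable {G : Type*} [Group G] [Finite G] {p q : ℕ} {x : G}

theorem Ctx.dh_le (C : Ctx p q x) {Q : Subgroup G} (hQ : Blk q x Q) {h : G} (hh : h ∈ nor Q) :
    Dh x Q h ≤ Q := sup_le (cm_le hh) (zb_le x Q)

namespace E4Aux

theorem self_nor {Q : Subgroup G} {h : G} (hh : h ∈ nor Q) : h ∈ nor (Dh x Q h) :=
  nor_inf_le_nor_sup _ _ ⟨mem_nor_cm Q h, nor_le_nor_zb Q hh⟩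

theorem mul_le (C : Ctx p q x) {Q : Subgroup G} (hQ : Blk q x Q) {a d : G} (ha : a ∈ Q)
    (hd : d ∈ nor Q) : Dh x Q (a * d) ≤ Dh x Q d := by
  have haD : a ∈ nor (Dh x Q d) := C.le_nor_of_zb_le hQ le_sup_right (C.dh_le hQ hd) ha
  refine sup_le (cm_le_of (mul_mem haD (self_nor hd)) fun g hg => ?_) le_sup_right
  have e : g * (a * d) * g⁻¹ * (a * d)⁻¹ =
      (g * a * g⁻¹ * a⁻¹) * (a * (g * d * g⁻¹ * d⁻¹) * a⁻¹) := by group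
  rw [e]
  exact mul_mem (Subgroup.mem_sup_right (C.comm_mem_zb hQ hg ha))
    ((mem_nor.1 haD _).1 (Subgroup.mem_sup_left (comm_mem_cm d hg).1))

theorem conj_mem {Q : Subgroup G} {d a : G} (hd : d ∈ nor Q) (ha : a ∈ Q) : d * a * d⁻¹ ∈ Q :=
  (mem_nor.1 hd a).1 ha

theorem conj_mem' {Q : Subgroup G} {d a : G} (hd : d ∈ nor Q) (ha : a ∈ Q) : d⁻¹ * a * d ∈ Q := by
  simpa only [inv_inv] using conj_mem (inv_mem hd) ha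

end E4Aux

theorem Ctx.dh_mul (C : Ctx p q x) {Q : Subgroup G} (hQ : Blk q x Q) {a d : G} (ha : a ∈ Q)
    (hd : d ∈ nor Q) : Dh x Q (a * d) = Dh x Q d := by
  refine le_antisymm (E4Aux.mul_le C hQ ha hd) ?_
  have := E4Aux.mul_le C hQ (inv_mem ha) (mul_mem (Subgroup.le_normalizer ha) hd)
  rwa [inv_mul_cancel_left] at this

theorem Ctx.dh_nor (C : Ctx p q x) {Q : Subgroup G} (hQ : Blk q x Q) {h : G} (hh : h ∈ nor Q)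
    {y : G} (hy : Pt x Q y) : y ∈ nor (Dh x Q h) := by
  obtain ⟨a, ha, c, hc, hcy, rfl⟩ := C.blk_decomp hQ hy hh
  rw [C.dh_mul hQ ha hc]
  refine nor_inf_le_nor_sup _ _ ⟨?_, nor_le_nor_zb Q hy.2⟩
  refine cj_eq_self_iff.1 ?_
  rw [cj_cm, cj_eq_self_iff.2 hy.2, ← hcy.eq, mul_inv_cancel_right]

theorem Ctx.dh_sq (C : Ctx p 2 x) {Q : Subgroup G} (hQ : Blk 2 x Q) {h : G} (hh : h ∈ nor Q)
    (h2 : h * h ∈ Q) : h * h ∈ Dh x Q h := by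
  obtain ⟨y, hy⟩ := hQ.exists_pt
  obtain ⟨a, ha, c, hc, hcy, rfl⟩ := C.blk_decomp hQ hy hh
  rw [C.dh_mul hQ ha hc]
  have hcc : c * c ∈ Q := by
    have e : c * c = (a * (c * a * c⁻¹))⁻¹ * (a * c * (a * c)) := by group
    rw [e]
    exact mul_mem (inv_mem (mul_mem ha (E4Aux.conj_mem hc ha))) h2
  have hZ : c * c ∈ Zb x Q := (C.zb_iff hQ hy).2 ⟨hcc, hcy.mul_left hcy⟩
  have e : a * c * (a * c) = (a * a) * (a⁻¹ * c * a⁻¹⁻¹ * c⁻¹) * (c * c) := by group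
  rw [e]
  exact mul_mem (mul_mem (Subgroup.mem_sup_right (C.sq_mem_zb hQ ha))
    (Subgroup.mem_sup_left (comm_mem_cm c (inv_mem ha)).1)) (Subgroup.mem_sup_right hZ)

theorem Ctx.dh_c0a (C : Ctx p 2 x) {Q : Subgroup G} (hQ : Blk 2 x Q) {h : G} (hh : h ∈ nor Q)
    {y : G} (hy : Pt x Q y) {a d : G} (ha : a ∈ Q) (hd : Commute d y) (h2 : h * h = a * d) (j : ℕ) :
    h⁻¹ * (y ^ j * a * (y ^ j)⁻¹) * h * (y ^ j * a * (y ^ j)⁻¹)⁻¹ ∈ Dh x Q (h * h) := by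
  obtain ⟨b0, hb0, c, hc, hcy, rfl⟩ := C.blk_decomp hQ hy hh
  have he : b0 * (c * b0 * c⁻¹) ∈ Q := mul_mem hb0 (E4Aux.conj_mem hc hb0)
  have e1 : b0 * c * (b0 * c) = (b0 * (c * b0 * c⁻¹)) * (c * c) := by group
  have hD : Dh x Q (b0 * c * (b0 * c)) = Dh x Q (c * c) := by
    rw [e1, C.dh_mul hQ he (mul_mem hc hc)]
  rw [hD]
  obtain ⟨z, hz⟩ : ∃ z, z = a⁻¹ * (b0 * (c * b0 * c⁻¹)) := ⟨_, rfl⟩
  have hz' : z = d * (c * c)⁻¹ := by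
    calc z = a⁻¹ * (b0 * c * (b0 * c)) * (c * c)⁻¹ := by rw [hz]; group
      _ = d * (c * c)⁻¹ := by rw [h2]; group
  have hzy : Commute z y := by
    rw [hz']
    exact hd.mul_left (hcy.mul_left hcy).inv_left
  have hzZ : z ∈ Zb x Q := (C.zb_iff hQ hy).2 ⟨hz ▸ mul_mem (inv_mem ha) he, hzy⟩
  have hyj : y ^ j ∈ nor Q := pow_mem hy.2 j
  have hgQ : y ^ j * a * (y ^ j)⁻¹ ∈ Q := E4Aux.conj_mem hyj ha
  have hbQ : y ^ j * b0 * (y ^ j)⁻¹ ∈ Q := E4Aux.conj_mem hyj hb0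
  have hg : y ^ j * a * (y ^ j)⁻¹ =
      (y ^ j * b0 * (y ^ j)⁻¹) * (c * (y ^ j * b0 * (y ^ j)⁻¹) * c⁻¹) * z⁻¹ := by
    have e2 : a = b0 * (c * b0 * c⁻¹) * z⁻¹ := by rw [hz]; group
    have e3 : c = y ^ j * c * (y ^ j)⁻¹ := by
      rw [← (hcy.pow_right j).eq, mul_inv_cancel_right]
    have e4 : z = y ^ j * z * (y ^ j)⁻¹ := by
      rw [← (hzy.pow_right j).eq, mul_inv_cancel_right]
    calc y ^ j * a * (y ^ j)⁻¹ = (y ^ j * b0 * (y ^ j)⁻¹) * ((y ^ j * c * (y ^ j)⁻¹) *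
          (y ^ j * b0 * (y ^ j)⁻¹) * (y ^ j * c * (y ^ j)⁻¹)⁻¹) * (y ^ j * z * (y ^ j)⁻¹)⁻¹ := by
          rw [e2]; group
      _ = _ := by rw [← e3, ← e4]
  generalize y ^ j * a * (y ^ j)⁻¹ = g at hgQ hg ⊢
  generalize y ^ j * b0 * (y ^ j)⁻¹ = b at hbQ hg
  have hcZ : c ∈ nor (Zb x Q) := nor_le_nor_zb Q hc
  -- the pieces
  have z1 : c⁻¹ * (b0⁻¹ * g * b0⁻¹⁻¹ * g⁻¹) * c ∈ Zb x Q :=
    E4Aux.conj_mem' hcZ (C.comm_mem_zb hQ (inv_mem hb0) hgQ)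
  have z2 : c⁻¹ * z⁻¹ * c * z ∈ Zb x Q := mul_mem (E4Aux.conj_mem' hcZ (inv_mem hzZ)) hzZ
  have hf : (c⁻¹ * z⁻¹ * c * z) * (c * b⁻¹ * c⁻¹) ∈ Q :=
    mul_mem (zb_le x Q z2) (E4Aux.conj_mem hc (inv_mem hbQ))
  have z3 := C.comm_mem_zb hQ hbQ hf
  have hc' : c⁻¹ * b * c ∈ Q := E4Aux.conj_mem' hc hbQ
  have z4 := E4Aux.conj_mem (nor_le_nor_zb (x := x) Q (Subgroup.le_normalizer hc')) (mul_mem z3 z2)
  have m5 := (comm_mem_cm (R := Q) (c * c) hc').1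
  have key := mul_mem (mul_mem (Subgroup.mem_sup_right (S := cm Q (c * c)) z1)
    (Subgroup.mem_sup_right (S := cm Q (c * c)) z4))
    (Subgroup.mem_sup_left (T := Zb x Q) m5)
  convert key using 1
  rw [hg]
  group

end Cfsg.Agent.DT
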