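import Cfsg.Agent.DT.E4

set_option autoImplicit false

namespace Cfsg.Agent.DT

variable {G : Type*} [Group G] [Finite G] {p q : ℕ} {x : G}

theorem Ctx.ts (C : Ctx p 2 x) {Q : Subgroup G} (hQ : Blk 2 x Q) {t : G} (ht : t ∈ nor Q)
    (ht2 : t * t = 1) (htZ : ∀ z ∈ Zb x Q, Commute t z) :
    (∀ g ∈ Q, t * g * t⁻¹ * g⁻¹ ∈ Zb x Q → ∀ w ∈ Dh x Q t, Commute g w) ∧
    (∀ w ∈ Dh x Q t, t * w * t⁻¹ * w⁻¹ ∈ Zb x Q) ∧
    (∀ w ∈ Dh x Q t, ∀ w' ∈ Dh x Q t, Commute w w') ∧ (∀ w ∈ Dh x Q t, w * w = 1) := by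
  have tQ : ∀ a ∈ Q, t * a * t⁻¹ ∈ Q := fun a ha => (mem_nor.1 ht a).1 ha
  have zc : ∀ z ∈ Zb x Q, ∀ a ∈ Q, a * z * a⁻¹ = z := fun z hz a ha => by
    rw [← (C.zb_central hQ hz ha).eq, mul_inv_cancel_right]
  have cQ : ∀ a ∈ Q, a * t * a⁻¹ * t⁻¹ ∈ Q := fun a ha => by
    rw [mul_assoc, mul_assoc, ← mul_assoc t]
    exact mul_mem ha (tQ _ (inv_mem ha))
  have h1 : ∀ g ∈ Q, t * g * t⁻¹ * g⁻¹ ∈ Zb x Q → ∀ w ∈ Dh x Q t, Commute g w := by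
    intro g hg hz w hw
    refine (mem_cen.1 ((sup_le ((ZBAux.cm_le' (H := Q ⊓ cen g) inf_le_left fun a ha =>
      ⟨cQ a ha, mem_cen.2 ?_⟩).trans inf_le_right) fun z hz => mem_cen.2 (C.zb_central hQ hz hg) :
        Dh x Q t ≤ cen g) hw)).symm
    have hb := tQ a ha
    have hk := C.comm_mem_zb hQ hg ha
    have e1 : t * (g * a * g⁻¹ * a⁻¹) * t⁻¹ = g * a * g⁻¹ * a⁻¹ := by
      rw [(htZ _ hk).eq, mul_inv_cancel_right]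
    have e3 : g * (t * a * t⁻¹) * g⁻¹ * (t * a * t⁻¹)⁻¹ = g * a * g⁻¹ * a⁻¹ := by
      rw [← e1]
      calc _ = (t * g * t⁻¹ * g⁻¹) * ((t * g * t⁻¹ * g⁻¹)⁻¹ * (g * (t * a * t⁻¹) * g⁻¹)) * (t * a * t⁻¹)⁻¹ := by
            group
        _ = (t * g * t⁻¹ * g⁻¹) * ((g * (t * a * t⁻¹) * g⁻¹) * (t * g * t⁻¹ * g⁻¹)⁻¹) * (t * a * t⁻¹)⁻¹ := by
          rw [(C.zb_central hQ (inv_mem hz) (mul_mem (mul_mem hg hb) (inv_mem hg))).eq]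
        _ = _ := by group
    have e5 := (C.zb_central hQ hk (cQ a ha)).eq
    refine (mul_inv_eq_iff_eq_mul.1 ?_ : g * _ = _ * g).symm
    calc g * (a * t * a⁻¹ * t⁻¹) * g⁻¹ = (g * a * g⁻¹ * a⁻¹) * (a * t * a⁻¹ * t⁻¹) *
          (g * (t * a * t⁻¹) * g⁻¹ * (t * a * t⁻¹)⁻¹)⁻¹ := by group
      _ = _ := by rw [e3, e5, mul_inv_cancel_right]
  let K : Subgroup G :=
    { carrier := {g | g ∈ Q ∧ t * g * t⁻¹ * g⁻¹ ∈ Zb x Q}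
      one_mem' := ⟨one_mem _, by simp⟩
      mul_mem' := fun {a b} ha hb => ⟨mul_mem ha.1 hb.1, by
        have := mul_mem ha.2 hb.2
        rw [← zc _ hb.2 a ha.1] at this
        convert this using 1
        group⟩
      inv_mem' := fun {a} ha => ⟨inv_mem ha.1, by
        have := inv_mem ha.2
        rw [← zc _ this a⁻¹ (inv_mem ha.1)] at this
        convert this using 1
        group⟩ }
  have h2 : ∀ w ∈ Dh x Q t, t * w * t⁻¹ * w⁻¹ ∈ Zb x Q := fun w hw =>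
    ((sup_le (ZBAux.cm_le' (H := K) (fun _ h => h.1) fun a ha => ⟨cQ a ha, by
      have := C.sq_mem_zb hQ (mul_mem (tQ a ha) (inv_mem ha))
      convert this using 1
      calc _ = t * a * t⁻¹ * (t * t) * a⁻¹ * (t * t)⁻¹ * (t * a * t⁻¹ * a⁻¹) := by group
        _ = _ := by rw [ht2]; group⟩)
      fun z hz => ⟨zb_le _ _ hz, by rw [(htZ z hz).eq]; simp⟩ : Dh x Q t ≤ K) hw).2
  have h3 : ∀ w ∈ Dh x Q t, ∀ w' ∈ Dh x Q t, Commute w w' := fun w hw =>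
    h1 w (C.dh_le hQ ht hw) (h2 w hw)
  refine ⟨h1, h2, h3, fun w hw => ?_⟩
  obtain ⟨y, hy⟩ := hQ.exists_pt
  exact C.sq_one hQ hy (C.dh_le hQ ht hw) fun i =>
    h3 w hw _ ((mem_nor.1 (pow_mem (C.dh_nor hQ ht hy) i) w).1 hw)

end Cfsg.Agent.DT
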