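import Cfsg.Agent.DT.Full

set_option autoImplicit false

namespace Cfsg.Agent.DT

variable {G : Type*} [Group G] [Finite G] {p q : ℕ} {x : G}

theorem Ctx.fin_ab (C : Ctx p 2 x) {Q1 Q2 : Subgroup G} (hP : Par 2 x Q1 Q2) {y : G}
    (hy : Pt x Q1 y) (hA : Ab x Q2 y) : False := by
  have h1 := hP.1
  have h2 := hP.2.1
  have hne := hP.2.2.1
  have h21 : Zb x Q2 ≤ Q1 := C.full hP
  have h12 : Zb x Q1 ≤ Q2 := C.full (C.par_symm hP)
  -- the set of `⟨y⟩`-conjugates of `Z2`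
  let S : Set G := {g | ∃ i : ℕ, ∃ z ∈ Zb x Q2, g = y ^ i * z * (y ^ i)⁻¹}
  let A : Subgroup G := Zb x Q1 ⊔ Subgroup.closure S
  have hS1 : S ⊆ Q1 := by
    rintro g ⟨i, z, hz, rfl⟩
    exact (mem_nor.mp ((nor Q1).pow_mem hy.2 i) z).mp (h21 hz)
  have hS2 : S ⊆ Q2 := by
    rintro g ⟨i, z, hz, rfl⟩
    have hb : Blk 2 x (cj (y ^ i) Q2) := h2.cj _
    have hm : y ^ i * z * (y ^ i)⁻¹ ∈ Zb x (cj (y ^ i) Q2) := by
      rw [zb_cj, mem_cj]
      simpa [mul_assoc] using hz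
    by_cases e : Q2 = cj (y ^ i) Q2
    · have := zb_le _ _ hm
      rwa [← e] at this
    · by_cases hz1 : y ^ i * z * (y ^ i)⁻¹ = 1
      · rw [hz1]; exact Q2.one_mem
      · obtain ⟨w, hw, hw1⟩ := C.zb_ne_bot h2
        have hP' : Par 2 x Q2 (cj (y ^ i) Q2) :=
          ⟨h2, hb, e, w, hw, hw1, C.cen_zb_le hb hm hz1 (mem_cen.mpr (hA i z hz w hw).symm)⟩
        exact C.full hP' hm
  have hA1 : A ≤ Q1 := sup_le (zb_le _ _) ((Subgroup.closure_le _).mpr hS1)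
  have hA2 : A ≤ Q2 := sup_le h12 ((Subgroup.closure_le _).mpr hS2)
  have hZ2A : Zb x Q2 ≤ A := by
    intro z hz
    apply Subgroup.mem_sup_right
    apply Subgroup.subset_closure
    exact ⟨0, z, hz, by simp⟩
  have hQ1 : Q1 ≤ nor A := C.le_nor_of_zb_le h1 le_sup_left hA1
  have hQ2 : Q2 ≤ nor A := C.le_nor_of_zb_le h2 hZ2A hA2
  have hyS : y ∈ nor (Subgroup.closure S) := by
    rw [← cj_eq_self_iff]
    apply Subgroup.eq_of_le_of_card_ge
    · rw [Subgroup.map_le_iff_le_comap, Subgroup.closure_le]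
      rintro g ⟨i, z, hz, rfl⟩
      simp only [SetLike.mem_coe, Subgroup.mem_comap]
      apply Subgroup.subset_closure
      refine ⟨i + 1, z, hz, ?_⟩
      simp only [MulEquiv.toMonoidHom_eq_coe, MonoidHom.coe_coe, MulAut.conj_apply, pow_succ']
      group
    · rw [card_cj]
  have hyA : y ∈ nor A := nor_inf_le_nor_sup _ _ ⟨nor_le_nor_zb Q1 hy.2, hyS⟩
  have hAne : A ≠ ⊥ := by
    obtain ⟨w, hw, hw1⟩ := C.zb_ne_bot h2
    intro e
    have := hZ2A hw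
    rw [e, Subgroup.mem_bot] at this
    exact hw1 this
  have hL : nor A ≠ ⊤ := C.nor_ne_top (h1.pgroup.to_le hA1) hAne
  have := C.b8 h1 hy hL hQ1 hyA
  exact hne (C.uq h1 h2 (hQ2.trans this))

theorem Ctx.even_case (C : Ctx p 2 x) : False := by
  obtain ⟨Q1, Q2, hP⟩ := C.exists_par
  obtain ⟨y, hy⟩ := hP.1.exists_pt
  obtain ⟨y', hy'⟩ := hP.2.1.exists_pt
  rcases C.ab_or_nab hP.2.1 y with h | h
  · exact C.fin_ab hP hy h
  · rcases C.ab_or_nab hP.1 y' with h' | h'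
    · exact C.fin_ab (C.par_symm hP) hy' h'
    · exact C.fin_nab hP hy hy' h h'

end Cfsg.Agent.DT
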