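import Cfsg.Agent.DT.E2
import Cfsg.Agent.DT.Defs2

set_option autoImplicit false

namespace Cfsg.Agent.DT

variable {G : Type*} [Group G] [Finite G] {p q : ℕ} {x : G}

theorem Ctx.f1 (C : Ctx p 2 x) {Q : Subgroup G} (h : Blk 2 x Q) {y : G} (hy : Pt x Q y) {d : G}
    (hd : d ∈ nor Q) (hdy : Commute d y) (hd2 : d * d = 1) (hdZ : ∀ z ∈ Zb x Q, Commute d z)
    (hdn : d ∉ Zb x Q) : ∃ e ∈ Zb x Q, ∃ Q5 : Subgroup G, FH x Q Q5 y (d * e) := by
  obtain ⟨Q5, b5, p5, n5⟩ := C.second_blk h hy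
  obtain ⟨z, hz, hz1⟩ := C.zb_ne_bot b5
  have hz2 : z * z = 1 := C.zb_sq b5 hz
  have hzy : Commute z y := (mem_zb.1 hz).2 y p5
  have hd1 : d ≠ 1 := by rintro rfl; exact hdn (one_mem _)
  -- conjugates of `z` by elements centralizing `y`
  have key : ∀ g : G, Commute g y → Blk 2 x (cj g Q5) ∧ Pt x (cj g Q5) y ∧
      g * z * g⁻¹ ∈ Zb x (cj g Q5) ∧ g * z * g⁻¹ ≠ 1 := by
    intro g hg
    refine ⟨b5.cj g, ?_, ?_, ?_⟩
    · have := p5.cj g
      rwa [hg.eq, mul_inv_cancel_right] at this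
    · rw [zb_cj, mem_cj]
      simpa [mul_assoc] using hz
    · intro e
      exact hz1 (by simpa using e)
  have hcl : ∀ a b : G, Commute a y → Commute b y → ∀ g ∈ Subgroup.closure ({a, b} : Set G),
      Commute g y := by
    intro a b ha hb g hg
    have : Subgroup.closure ({a, b} : Set G) ≤ cen y := by
      rw [Subgroup.closure_le]
      rintro u (rfl | rfl)
      · exact mem_cen.2 ha
      · exact mem_cen.2 hb
    exact mem_cen.1 (this hg)
  have base : ∀ Q7 : Subgroup G, Blk 2 x Q7 → Pt x Q7 y → Q ≠ Q7 →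
      (∃ w ∈ Zb x Q7, w ≠ 1 ∧ Commute d w) →
      ∃ e ∈ Zb x Q, ∃ Q5 : Subgroup G, FH x Q Q5 y (d * e) := by
    intro Q7 b7 p7 n7 hw
    refine ⟨1, one_mem _, Q7, ?_⟩
    rw [mul_one]
    exact ⟨h, b7, n7, hy, p7, hd, hd1, hd2, hdy, hdZ, hw⟩
  rcases Nat.even_or_odd (orderOf (d * z)) with he | ho
  · obtain ⟨t, ht, t1, t2, td, tz, hcase⟩ := dihedral_even hd2 hz2 he
    rcases hcase with ⟨-, g, hg, e⟩ | ⟨⟨g, hg, e⟩, -⟩
    · obtain ⟨b7, p7, z7, n7⟩ := key g (hcl d z hdy hzy g hg)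
      rw [← e] at z7 n7
      have hM : t * z ∈ nor Q5 :=
        C.cen_zb_le b5 hz hz1 (mem_cen.2 (tz.mul_left (Commute.refl z)))
      have e5 : cj g Q5 = Q5 := by
        by_contra hne
        exact n7 (C.la b7 b5 hne p7 p5 z7 hM)
      rw [e5] at z7
      have htZ : t ∈ Zb x Q5 := by
        have := mul_mem z7 (inv_mem hz)
        rwa [mul_inv_cancel_right] at this
      exact base Q5 b5 p5 n5.symm ⟨t, htZ, t1, td.symm⟩
    · obtain ⟨b7, p7, z7, n7⟩ := key g (hcl d z hdy hzy g hg)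
      rw [← e] at z7 n7
      have hc7 : Commute d (t * d) := td.symm.mul_right (Commute.refl d)
      by_cases e7 : Q = cj g Q5
      · rw [← e7] at z7
        have e1 : d * (t * d) = t := by rw [td.eq, ← mul_assoc, hd2, one_mul]
        refine ⟨t * d, z7, Q5, h, b5, n5.symm, hy, p5,
          mul_mem hd (Subgroup.le_normalizer (zb_le x Q z7)), ?_, ?_, ?_, ?_, z, hz, hz1, ?_⟩
        · rw [e1]; exact t1
        · rw [e1]; exact t2
        · exact hdy.mul_left ((mem_zb.1 z7).2 y hy)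
        · exact fun w hw => (hdZ w hw).mul_left (C.zb_central h z7 (zb_le x Q hw))
        · rw [e1]; exact tz
      · exact base _ b7 p7 e7 ⟨t * d, z7, n7, hc7⟩
  · have ho' : Odd (orderOf (z * d)) := by
      have : z * d = (d * z)⁻¹ := by
        rw [mul_inv_rev, inv_eq_of_mul_eq_one_right hz2, inv_eq_of_mul_eq_one_right hd2]
      rwa [this, orderOf_inv]
    obtain ⟨g, hg, e⟩ := dihedral_odd hz2 hd2 ho'
    obtain ⟨b7, p7, z7, n7⟩ := key g (hcl z d hzy hdy g hg)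
    rw [← e] at z7
    by_cases e7 : cj g Q5 = Q
    · rw [e7] at z7
      exact absurd z7 hdn
    · exact absurd (C.la b7 h e7 p7 hy z7 hd) hd1

end Cfsg.Agent.DT
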