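import Cfsg.Agent.DT.E5
import Cfsg.Agent.DT.Defs2

set_option autoImplicit false

namespace Cfsg.Agent.DT

variable {G : Type*} [Group G] [Finite G] {p q : ℕ} {x : G}

omit [Finite G] in
theorem F2Aux.cen_conj {Q : Subgroup G} {t g : G} (ht : t ∈ nor Q) (h : ∀ a ∈ Q, Commute g a) :
    ∀ a ∈ Q, Commute (t * g * t⁻¹) a := fun a ha => by
  have e := (h _ ((mem_nor.1 (inv_mem ht) a).1 ha)).eq
  show t * g * t⁻¹ * a = a * (t * g * t⁻¹)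
  calc t * g * t⁻¹ * a = t * (g * (t⁻¹ * a * t⁻¹⁻¹)) * t⁻¹ := by group
    _ = a * (t * g * t⁻¹) := by rw [e]; group

theorem Ctx.f2 (C : Ctx p 2 x) {Q Q5 : Subgroup G} {y t : G} (H : FH x Q Q5 y t) :
    (∀ g ∈ Q, t * g * t⁻¹ * g⁻¹ ∈ Zb x Q ↔ g ∈ (Q ⊓ Q5) ⊔ Zb x Q) ∧
    (∀ w ∈ Q ⊓ Q5, Commute t w) ∧
    (∀ g ∈ Q, (∀ a ∈ Q, Commute g a) → g ∈ Zb x Q) ∧ Q ⊓ Q5 ≠ ⊥ := by
  obtain ⟨z5, hz5, z51, tz5⟩ := H.t5
  have t5 : t ∈ nor Q5 := C.cen_zb_le H.b5 hz5 z51 (mem_cen.2 tz5)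
  have hL : cen t ≠ ⊤ := C.cen_ne_top' H.t1 (k := 1) (by rw [pow_one, sq, H.t2])
  have yL : y ∈ cen t := mem_cen.2 H.ty.symm
  obtain ⟨z0, hz0, z01⟩ := C.zb_ne_bot H.b
  have c1 := (C.d0_loc H.b H.pt hL yL hz0 z01 (mem_cen.2 (H.tZ z0 hz0).symm)).1
  have c5 := (C.d0_loc H.b5 H.pt5 hL yL hz5 z51 (mem_cen.2 tz5.symm)).1
  have nle := C.not_le_sup H.b H.b5 H.ne H.pt H.pt5
  have fwd : ∀ g ∈ Q, t * g * t⁻¹ * g⁻¹ ∈ Zb x Q → g ∈ (Q ⊓ Q5) ⊔ Zb x Q := fun g hg hc => by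
    have h1 := C.cent_lift' H.b H.pt H.tM H.ty H.tZ hg hc
    obtain ⟨a, ha, c, -, hcy, rfl⟩ := C.loc_decomp hL H.pt.1 yL (mem_cen.2 h1.symm)
    exact Subgroup.mul_mem_sup ⟨c1 ha, c5 ha⟩
      ((C.zb_iff H.b H.pt).2 ⟨(Q.mul_mem_cancel_left (c1 ha)).1 hg, hcy⟩)
  have hW : ∀ w ∈ Q ⊓ Q5, (∀ a ∈ Q, Commute w a) → w = 1 := fun w hw hc => by
    by_contra w1
    have mc : ∀ {n : G}, n ∈ Subgroup.centralizer (Q : Set G) ↔ ∀ a ∈ Q, Commute n a := fun {n} =>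
      ⟨fun h a ha => (h a ha).symm, fun h a ha => (h a ha).symm⟩
    have h1 := C.cw H.b H.b5 H.pt H.pt5 (W := (Q ⊓ Q5) ⊓ Subgroup.centralizer (Q : Set G)) inf_le_left
      (fun e => w1 ((Subgroup.eq_bot_iff_forall _).1 e w ⟨hw, mc.2 hc⟩))
      (Subgroup.mem_normalizer_fintype fun n hn => ⟨⟨(mem_nor.1 H.pt.2 n).1 hn.1.1, (mem_nor.1 H.pt5.2 n).1 hn.1.2⟩,
        mc.2 (F2Aux.cen_conj H.pt.2 (mc.1 hn.2))⟩)
    refine nle fun g hg => h1 ⟨hg, Subgroup.mem_normalizer_fintype fun n hn => ?_⟩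
    rwa [← (mc.1 hn.2 g hg).eq, mul_inv_cancel_right]
  have dW : ∀ s ∈ cm Q t, s ∈ (Q ⊓ Q5) ⊔ Zb x Q := fun s hs =>
    fwd s (cm_le H.tM hs) ((C.ts H.b H.tM H.t2 H.tZ).2.1 s (Subgroup.mem_sup_left hs))
  have sW : ∀ w ∈ Q ⊓ Q5, (Q ⊓ Q5) ⊔ Zb x Q ≤ cen w := fun w hw =>
    sup_le (fun a ha => mem_cen.2 (C.inf_comm H.b H.b5 H.ne H.pt H.pt5 ha hw))
      fun z hz => mem_cen.2 (C.zb_central H.b hz hw.1)
  have two : ∀ w ∈ Q ⊓ Q5, Commute t w := fun w hw => by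
    have hu : t * w * t⁻¹ ∈ Q ⊓ Q5 := ⟨(mem_nor.1 H.tM w).1 hw.1, (mem_nor.1 t5 w).1 hw.2⟩
    have e := hW _ (mul_mem hu (inv_mem hw)) fun g hg => by
      obtain ⟨ζ, hζ, e1⟩ : ∃ ζ ∈ Zb x Q, g * w * g⁻¹ = ζ * w := ⟨_, C.comm_mem_zb H.b hg hw.1, by group⟩
      have hs := (comm_mem_cm t (inv_mem hg)).2.2.1
      generalize hs' : t⁻¹ * g⁻¹⁻¹ * t * g⁻¹ = s at hs
      have s1 := (mem_cen.1 (sW w hw (dW s hs))).eq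
      have s2 := (C.zb_central H.b hζ (cm_le H.tM hs)).eq
      have e2 : g * (t * w * t⁻¹) * g⁻¹ = ζ * (t * w * t⁻¹) :=
        calc g * (t * w * t⁻¹) * g⁻¹ = t * (s * (g * w * g⁻¹) * s⁻¹) * t⁻¹ := by rw [← hs']; group
          _ = t * (ζ * w) * t⁻¹ := by rw [e1, ← mul_assoc s, ← s2, mul_assoc ζ, s1]; group
          _ = ζ * (t * w * t⁻¹) := by rw [← mul_assoc, (H.tZ ζ hζ).eq]; group
      have s3 := (C.zb_central H.b hζ (mul_mem hu.1 (inv_mem hw.1))).eq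
      have e3 : g * (t * w * t⁻¹ * w⁻¹) * g⁻¹ = t * w * t⁻¹ * w⁻¹ :=
        calc g * (t * w * t⁻¹ * w⁻¹) * g⁻¹ = g * (t * w * t⁻¹) * g⁻¹ * (g * w * g⁻¹)⁻¹ := by group
          _ = ζ * (t * w * t⁻¹ * w⁻¹) * ζ⁻¹ := by rw [e1, e2]; group
          _ = _ := by rw [s3, mul_inv_cancel_right]
      exact (mul_inv_eq_iff_eq_mul.1 e3).symm
    exact mul_inv_eq_iff_eq_mul.1 (mul_inv_eq_one.1 e)
  have key : ∀ g ∈ (Q ⊓ Q5) ⊔ Zb x Q, (∀ a ∈ Q, Commute g a) → g ∈ Zb x Q := fun g hg hc => by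
    obtain ⟨w, hw, z, hz, rfl⟩ :=
      (mem_sup_nor (inf_le_left.trans (Subgroup.le_normalizer.trans (nor_le_nor_zb Q)))).1 hg
    have := hW w hw fun a ha => by
      simpa using (hc a ha).mul_left (C.zb_central H.b hz ha).inv_left
    rwa [this, one_mul]
  refine ⟨fun g hg => ⟨fwd g hg, fun h => ?_⟩, two, fun g hg hc => key g (fwd g hg (key _
    (dW _ (comm_mem_cm t hg).2.1) fun a ha => (F2Aux.cen_conj H.tM hc a ha).mul_left (hc a ha).inv_left)) hc,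
    fun e => nle fun g hg => fwd g hg ?_⟩
  · have le : (Q ⊓ Q5) ⊔ Zb x Q ≤ cen t :=
      sup_le (fun a ha => mem_cen.2 (two a ha).symm) fun z hz => mem_cen.2 (H.tZ z hz).symm
    rw [← (mem_cen.1 (le h)).eq, mul_inv_cancel_right, mul_inv_cancel]
    exact one_mem _
  · have := dW _ (comm_mem_cm t hg).2.1
    rwa [e, bot_sup_eq] at this

end Cfsg.Agent.DT
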