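import Cfsg.Agent.DT.F2
import Cfsg.Agent.DT.E2

set_option autoImplicit false

namespace Cfsg.Agent.DT

variable {G : Type*} [Group G] [Finite G] {p q : ℕ} {x : G}

namespace F3Aux

/-- every involution of `Zb Q` is conjugate to `z5` by an element centralizing `t` and `Q ⊓ Q5`. -/
theorem conj5 (C : Ctx p 2 x) {Q Q5 : Subgroup G} {y t z5 a : G} (H : FH x Q Q5 y t)
    (h5 : z5 ∈ Zb x Q5) (h1 : z5 ≠ 1) (ht : Commute t z5) (ha : a ∈ Zb x Q) (a1 : a ≠ 1) :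
    ∃ g ∈ cen t ⊓ Subgroup.centralizer ((Q ⊓ Q5 : Subgroup G) : Set G), z5 = g * a * g⁻¹ := by
  obtain ⟨g, hg, e⟩ := dihedral_odd (C.zb_sq H.b ha) (C.zb_sq H.b5 h5)
    (C.odd_mul H.b H.b5 H.ne H.pt H.pt5 ha a1 h5 h1)
  refine ⟨g, (Subgroup.closure_le _).2 ?_ hg, e⟩
  rintro _ (rfl | rfl)
  · exact ⟨mem_cen.2 (H.tZ _ ha).symm, fun w hw => (C.zb_central H.b ha hw.1).symm⟩
  · exact ⟨mem_cen.2 ht.symm, fun w hw => (C.zb_central H.b5 h5 hw.2).symm⟩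

theorem split (C : Ctx p 2 x) {Q Q5 : Subgroup G} {y t u : G} (H : FH x Q Q5 y t) (hu : u ∈ Q)
    (h : t * u * t⁻¹ * u⁻¹ ∈ Zb x Q) : ∃ w ∈ Q ⊓ Q5, ∃ z ∈ Zb x Q, u = w * z :=
  (mem_sup_nor (inf_le_left.trans (Subgroup.le_normalizer.trans (nor_le_nor_zb Q)))).1
    (((C.f2 H).1 u hu).1 h)

theorem fixed (C : Ctx p 2 x) {Q Q5 : Subgroup G} {y t g v w : G} (H : FH x Q Q5 y t)
    (hg : g ∈ nor Q) (gt : Commute g t) (gW : ∀ w ∈ Q ⊓ Q5, Commute g w) (hv : v ∈ Q)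
    (hw : w ∈ Q ⊓ Q5) : g * (v * w * v⁻¹ * w⁻¹) * g⁻¹ = v * w * v⁻¹ * w⁻¹ := by
  have hf : t * v * t⁻¹ * v⁻¹ ∈ Q := mul_mem ((mem_nor.1 H.tM v).1 hv) (inv_mem hv)
  obtain ⟨w', hw', z, hz, e⟩ := split C H hf ((C.ts H.b H.tM H.t2 H.tZ).2.1 _
    (Subgroup.mem_sup_left (comm_mem_cm t hv).2.1))
  have hu : g * v * g⁻¹ * v⁻¹ ∈ Q := mul_mem ((mem_nor.1 hg v).1 hv) (inv_mem hv)
  have hz' : z⁻¹ * (g * z * g⁻¹) ∈ Zb x Q :=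
    mul_mem (inv_mem hz) ((mem_nor.1 (nor_le_nor_zb Q hg) z).1 hz)
  have e1 : t * (g * v * g⁻¹) * t⁻¹ * (g * v * g⁻¹)⁻¹ =
      t * v * t⁻¹ * v⁻¹ * (z⁻¹ * (g * z * g⁻¹)) := by
    calc _ = (t * g) * v * (t * g)⁻¹ * (g * v * g⁻¹)⁻¹ := by group
      _ = g * (t * v * t⁻¹ * v⁻¹) * g⁻¹ := by rw [← gt.eq]; group
      _ = (g * w') * z * g⁻¹ := by rw [e]; group
      _ = _ := by rw [(gW w' hw').eq, e]; group
  have e2 : t * (g * v * g⁻¹ * v⁻¹) * t⁻¹ * (g * v * g⁻¹ * v⁻¹)⁻¹ ∈ Zb x Q := by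
    have k := mul_mem hz' (C.comm_mem_zb H.b hf hu)
    rw [← mul_assoc, ← mul_assoc, ← mul_assoc, (C.zb_central H.b hz' hf).eq, ← e1] at k
    convert k using 1
    group
  obtain ⟨w1, hw1, z1, hz1, e3⟩ := split C H hu e2
  have c1 : Commute (g * v * g⁻¹ * v⁻¹) w := by
    rw [e3]
    exact (C.inf_comm H.b H.b5 H.ne H.pt H.pt5 hw1 hw).mul_left (C.zb_central H.b hz1 hw.1)
  have c2 := C.zb_central H.b (C.comm_mem_zb H.b hv hw.1) hu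
  calc _ = g * v * w * v⁻¹ * (g * w)⁻¹ := by group
    _ = g * v * g⁻¹ * (g * w) * v⁻¹ * (w * g)⁻¹ := by rw [← (gW w hw).eq]; group
    _ = (g * v * g⁻¹ * v⁻¹ * (v * w * v⁻¹ * w⁻¹)) * (w * (g * v * g⁻¹ * v⁻¹)⁻¹) * w⁻¹ := by
      rw [(gW w hw).eq]; group
    _ = _ := by rw [← c2.eq, ← c1.inv_left.eq]; group

end F3Aux

theorem Ctx.f3 (C : Ctx p 2 x) {Q Q5 : Subgroup G} {y t : G} (H : FH x Q Q5 y t) :
    Nat.card (Zb x Q) = 2 := by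
  obtain ⟨z5, h5, h1, ht⟩ := H.t5
  obtain ⟨-, -, f3, f4⟩ := C.f2 H
  obtain ⟨⟨w, hw⟩, w1⟩ := Subgroup.ne_bot_iff_exists_ne_one.1 f4
  replace w1 : w ≠ 1 := fun e => w1 (Subtype.ext e)
  obtain ⟨v, hv, c⟩ : ∃ v ∈ Q, ¬ Commute w v := by
    by_contra! k
    exact w1 (C.inf_zb H.b H.b5 H.ne H.pt H.pt5 (f3 w hw.1 k) hw.2)
  have hz := C.comm_mem_zb H.b hv hw.1
  have z1 : v * w * v⁻¹ * w⁻¹ ≠ 1 := fun e => c (by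
    rw [mul_inv_eq_one, mul_inv_eq_iff_eq_mul] at e; exact e.symm)
  refine (Nat.card_eq_two_iff' (1 : Zb x Q)).2 ⟨⟨_, hz⟩, fun e => z1 (congrArg Subtype.val e),
    fun ⟨a, ha⟩ a1 => Subtype.ext ?_⟩
  replace a1 : a ≠ 1 := fun e => a1 (Subtype.ext e)
  obtain ⟨g1, hg1, e1⟩ := F3Aux.conj5 C H h5 h1 ht hz z1
  obtain ⟨g2, hg2, e2⟩ := F3Aux.conj5 C H h5 h1 ht ha a1
  have hg := mul_mem (inv_mem hg2) hg1
  have e : a = g2⁻¹ * g1 * (v * w * v⁻¹ * w⁻¹) * (g2⁻¹ * g1)⁻¹ := by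
    calc a = g2⁻¹ * (g2 * a * g2⁻¹) * g2 := by group
      _ = _ := by rw [← e2, e1]; group
  have hn : g2⁻¹ * g1 ∈ nor Q := by
    by_contra k
    refine a1 (C.zb_ti (H.b.cj (g2⁻¹ * g1)) H.b (fun e => k (cj_eq_self_iff.1 e)) ?_ ha)
    rw [zb_cj, mem_cj, e]
    convert hz using 1
    group
  exact e.trans (F3Aux.fixed C H hn (mem_cen.1 hg.1) (fun w hw => (hg.2 w hw).symm) hv hw)

end Cfsg.Agent.DT
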