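import Cfsg.Agent.DT.F2

set_option autoImplicit false

namespace Cfsg.Agent.DT

namespace F4Aux

theorem cnt {Q : Type*} [Group Q] [Finite Q] {Z A : Subgroup Q} (τ : Q →* Q) (hZ : Nat.card Z = 2)
    (c1 : ∀ a b, a * b * a⁻¹ * b⁻¹ ∈ Z) (c2 : ∀ z ∈ Z, ∀ a, Commute z a) (c3 : ∀ g, (∀ a, Commute g a) → g ∈ Z)
    (ab : ∀ a ∈ A, ∀ b ∈ A, Commute a b) (k : ∀ g, τ g * g⁻¹ ∈ Z ↔ g ∈ A) (im : ∀ g, τ g * g⁻¹ ∈ A)
    {w : Q} (hw : w ∈ A) : ∃ g, τ g * g⁻¹ * w⁻¹ ∈ Z := by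
  have : Z.Normal := ⟨fun z hz g => by rwa [← (c2 z hz g).eq, mul_inv_cancel_right]⟩
  have : Fact (Nat.Prime 2) := ⟨Nat.prime_two⟩
  let π := QuotientGroup.mk' Z
  have cm : ∀ a b, π a * π b = π b * π a := fun a b => by
    rw [← mul_inv_eq_one, ← map_mul, ← map_mul, ← map_inv, ← map_mul, mul_inv_rev, ← mul_assoc]
    exact (QuotientGroup.eq_one_iff _).2 (c1 a b)
  let φ : Q →* Q ⧸ Z := MonoidHom.mk' (fun g => π (τ g * g⁻¹)) fun g h => by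
    simp only [map_mul, mul_inv_rev, mul_assoc]
    rw [← mul_assoc (π g⁻¹), cm g⁻¹, mul_assoc, cm g⁻¹]
  have hk : φ.ker = A := Subgroup.ext fun g => (QuotientGroup.eq_one_iff _).trans (k g)
  have : A.Normal := hk ▸ inferInstance
  let e : Z ≃* ℤˣ := mulEquivOfPrimeCardEq hZ (by simp)
  let c : Q → Q →* Z := fun a => MonoidHom.mk' (fun g => ⟨g * a * g⁻¹ * a⁻¹, c1 g a⟩) fun g h => Subtype.ext (by
    have := (c2 _ (c1 h a) (g⁻¹ * a⁻¹)).eq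
    have h2 := (c2 _ (c1 h a) a).eq
    calc g * h * a * (g * h)⁻¹ * a⁻¹ = g * (h * a * h⁻¹ * a⁻¹ * a) * (g⁻¹ * a⁻¹) := by group
      _ = g * a * (h * a * h⁻¹ * a⁻¹ * (g⁻¹ * a⁻¹)) := by rw [h2]; group
      _ = g * a * g⁻¹ * a⁻¹ * (h * a * h⁻¹ * a⁻¹) := by rw [this]; group)
  have hc : ∀ a g, (c a g : Q) = g * a * g⁻¹ * a⁻¹ := fun _ _ => rfl
  choose r hr hr' using fun u : A.map π => u.2
  let χ : A.map π → (Q ⧸ A →* ℤ) := fun u => QuotientGroup.lift A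
    ((Units.coeHom ℤ).comp (e.toMonoidHom.comp (c (r u)))) fun g hg => by
      have : c (r u) g = 1 := Subtype.ext (by rw [hc, (ab g hg _ (hr u)).eq]; simp)
      simp [this]
  have inj : Function.Injective χ := fun u v huv => Subtype.ext (by
    rw [← hr', ← hr']
    refine QuotientGroup.eq.2 (c3 _ fun g => ?_)
    have h1 : ((e (c (r u) g) : ℤˣ) : ℤ) = e (c (r v) g) := DFunLike.congr_fun huv (QuotientGroup.mk g)
    have h2 := congrArg Subtype.val (e.injective (Units.ext h1))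
    rw [hc, hc] at h2
    have h3 := (c2 _ (c1 g (r v)) (r u)).eq
    have h4 : (r u)⁻¹ * r v * g = g * ((r u)⁻¹ * r v) := by
      have h5 : g * r u * g⁻¹ = r u * (g * r v * g⁻¹ * (r v)⁻¹) := by rw [← h3, ← h2]; group
      have h6 := (c2 _ (c1 g (r v)) (r v)).eq
      have h7 : g * r v * g⁻¹ = r v * (g * r v * g⁻¹ * (r v)⁻¹) := by rw [← h6]; group
      have h8 := (c2 _ (c1 g (r v)) ((r u)⁻¹ * r v)).eq
      calc (r u)⁻¹ * r v * g = (g * r v * g⁻¹ * (r v)⁻¹)⁻¹ * ((r u)⁻¹ * r v * (g * r v * g⁻¹ * (r v)⁻¹)) * g := by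
            rw [← h8]; group
        _ = (r u * (g * r v * g⁻¹ * (r v)⁻¹))⁻¹ * (r v * (g * r v * g⁻¹ * (r v)⁻¹)) * g := by group
        _ = _ := by rw [← h5, ← h7]; group
    exact h4)
  have := Fintype.ofFinite (A.map π)
  have := Fintype.ofFinite (Q ⧸ A)
  have h1 := ((linearIndependent_monoidHom (Q ⧸ A) ℤ).comp χ inj).fintype_card_le_finrank
  rw [Module.finrank_fintype_fun_eq_card, ← Nat.card_eq_fintype_card, ← Nat.card_eq_fintype_card,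
    ← Subgroup.index_eq_card, ← hk, Subgroup.index_ker, hk] at h1
  have h2 : φ.range = A.map π := Subgroup.eq_of_le_of_card_ge (by
    rintro _ ⟨g, rfl⟩
    exact ⟨_, im g, rfl⟩) h1
  obtain ⟨g, hg⟩ : π w ∈ φ.range := h2 ▸ ⟨w, hw, rfl⟩
  exact ⟨g, by rw [← div_eq_mul_inv]; exact QuotientGroup.eq_iff_div_mem.1 hg⟩

end F4Aux

variable {G : Type*} [Group G] [Finite G] {p q : ℕ} {x : G}

theorem Ctx.f4 (C : Ctx p 2 x) {Q Q5 : Subgroup G} {y t : G} (H : FH x Q Q5 y t)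
    (hZ : Nat.card (Zb x Q) = 2) {w : G} (hw : w ∈ (Q ⊓ Q5) ⊔ Zb x Q) :
    ∃ g ∈ Q, t * g * t⁻¹ * g⁻¹ * w⁻¹ ∈ Zb x Q := by
  obtain ⟨f1, -, f3, -⟩ := C.f2 H
  obtain ⟨-, t2, -, -⟩ := C.ts H.b H.tM H.t2 H.tZ
  have hA : (Q ⊓ Q5) ⊔ Zb x Q ≤ Q := sup_le inf_le_left (zb_le x Q)
  have hn : Q ⊓ Q5 ≤ nor (Zb x Q) := inf_le_left.trans (C.le_nor_of_zb_le H.b le_rfl (zb_le x Q))
  let τ : Q →* Q := ((MulAut.conj t).toMonoidHom.comp Q.subtype).codRestrict Q fun g => (mem_nor.1 H.tM g).1 g.2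
  refine (F4Aux.cnt (Z := (Zb x Q).subgroupOf Q) (A := ((Q ⊓ Q5) ⊔ Zb x Q).subgroupOf Q) τ
    (by rwa [Nat.card_congr (Subgroup.subgroupOfEquivOfLe (zb_le x Q)).toEquiv])
    (fun a b => C.comm_mem_zb H.b a.2 b.2) (fun z hz a => Subtype.ext (C.zb_central H.b hz a.2).eq)
    (fun g hg => f3 g g.2 fun a ha => congrArg Subtype.val (hg ⟨a, ha⟩).eq) (fun a ha b hb => Subtype.ext ?_)
    (fun g => f1 g g.2) (fun g => ?_) (w := ⟨w, hA hw⟩) hw).elim fun g hg => ⟨g, g.2, hg⟩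
  · obtain ⟨u, hu, z, hz, e⟩ := (mem_sup_nor hn).1 ha
    obtain ⟨v, hv, z', hz', e'⟩ := (mem_sup_nor hn).1 hb
    change a.1 * b.1 = b.1 * a.1
    refine Commute.eq ?_
    have h1 : Commute u b.1 := by
      rw [show b.1 = v * z' from e']
      exact (C.inf_comm H.b H.b5 H.ne H.pt H.pt5 hu hv).mul_right (C.zb_central H.b hz' hu.1).symm
    rw [show a.1 = u * z from e]
    exact h1.mul_left (C.zb_central H.b hz b.2)
  · exact (f1 _ (τ g * g⁻¹).2).1 (t2 _ (Subgroup.mem_sup_left (comm_mem_cm t g.2).2.1))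

end Cfsg.Agent.DT
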