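import Cfsg.Agent.DT.F1
import Cfsg.Agent.DT.F3
import Cfsg.Agent.DT.F4
import Cfsg.Agent.DT.E3

set_option autoImplicit false

namespace Cfsg.Agent.DT

variable {G : Type*} [Group G] [Finite G] {p q : ℕ} {x : G}

theorem Ctx.f5 (C : Ctx p 2 x) {Q Q' : Subgroup G} (hP : Par 2 x Q Q') {y : G} (hy : Pt x Q y)
    {u a d : G} (hu : u ∈ Zb x Q') (huQ : u ∉ Q) (hD : Dec Q y u a d) : a * a ≠ 1 := by
  intro aa
  have b := hP.1
  have b' := hP.2.1
  have u1 : u ≠ 1 := fun e => huQ (e ▸ Q.one_mem)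
  obtain ⟨da, -, -, dd⟩ := hD.facts (C.zb_sq b' hu)
  obtain ⟨ha, hd, dy, ue, -⟩ := hD
  rw [aa, inv_one] at dd
  have de : d = a⁻¹ * u := by rw [ue, inv_mul_cancel_left]
  have dZ : ∀ z ∈ Zb x Q, Commute d z := fun z hz => by
    rw [de]
    exact (C.zb_central b hz ha).symm.inv_left.mul_left (C.par_comm hP hz hu).symm
  obtain ⟨e, he, Q5, H⟩ := C.f1 b hy hd dy dd dZ fun h => huQ (ue ▸ Q.mul_mem ha (zb_le x Q h))
  have ta : Commute (d * e) a := da.mul_left (C.zb_central b he ha)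
  have hW : a ∈ (Q ⊓ Q5) ⊔ Zb x Q := ((C.f2 H).1 a ha).1 (by
    rw [ta.eq, mul_inv_cancel_right, mul_inv_cancel]; exact one_mem _)
  obtain ⟨g, hg, hz⟩ := C.f4 H (C.f3 H) hW
  set z := d * e * g * (d * e)⁻¹ * g⁻¹ * a⁻¹ with hzd
  have eg : e * g = g * e := (C.zb_central b he hg).eq
  have za : a * z = z * a := (C.zb_central b hz ha).eq.symm
  have zg : g⁻¹ * z = z * g⁻¹ := (C.zb_central b hz hg).inv_right.eq.symm
  have k1 : d * g = z * a * g * d := by
    rw [hzd, mul_assoc d e g, eg]; group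
  have k2 : g⁻¹ * u * g = z * d := by
    calc g⁻¹ * u * g = g⁻¹ * (a * z) * a * g * d := by rw [ue, mul_assoc g⁻¹, mul_assoc a, k1]; group
      _ = (g⁻¹ * z) * (a * a) * g * d := by rw [za]; group
      _ = z * d := by rw [zg, aa]; group
  have k3 : Commute (g⁻¹ * u * g) y := by
    rw [k2]; exact ((mem_zb.1 hz).2 y hy).mul_left dy
  refine C.par_disj hP (hy.conj (Subgroup.le_normalizer hg)) (C.cen_zb_le b' hu u1 (mem_cen.2 ?_))
  have := k3.eq
  change g * y * g⁻¹ * u = u * (g * y * g⁻¹)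
  calc g * y * g⁻¹ * u = g * (y * (g⁻¹ * u * g)) * g⁻¹ := by group
    _ = _ := by rw [← this]; group

end Cfsg.Agent.DT
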