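import Cfsg.Agent.DT.L3

set_option autoImplicit false

namespace Cfsg.Agent.DT

variable {G : Type*} [Group G] [Finite G] {p q : ℕ} {x : G}

namespace FinNAux

omit [Finite G] in
theorem comm_of_eq {a b u : G} (h : a * u * a⁻¹ * u⁻¹ = b * u * b⁻¹ * u⁻¹) :
    Commute (b⁻¹ * a) u := by
  have h1 : a * u * a⁻¹ = b * u * b⁻¹ := mul_right_cancel h
  show b⁻¹ * a * u = u * (b⁻¹ * a)
  calc b⁻¹ * a * u = b⁻¹ * (a * u * a⁻¹) * a := by group
    _ = b⁻¹ * (b * u * b⁻¹) * a := by rw [h1]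
    _ = u * (b⁻¹ * a) := by group

omit [Finite G] in
theorem comm_of_sq {w h : G} (hw : w * w = 1) (hh : h * h = 1) (hg : w * h * (w * h) = 1) :
    Commute h w := by
  show h * w = w * h
  calc h * w = (w * w) * h * w * (h * h) := by rw [hw, hh]; group
    _ = w * (w * h * (w * h)) * h := by group
    _ = w * h := by rw [hg]; group

omit [Finite G] in
theorem comm_conj {a b : G} (s : G) (h : Commute a (s * b * s⁻¹)) : Commute (s⁻¹ * a * s) b := by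
  show s⁻¹ * a * s * b = b * (s⁻¹ * a * s)
  calc s⁻¹ * a * s * b = s⁻¹ * (a * (s * b * s⁻¹)) * s := by group
    _ = s⁻¹ * ((s * b * s⁻¹) * a) * s := by rw [h.eq]
    _ = b * (s⁻¹ * a * s) := by group

omit [Finite G] in
theorem le_or_le {A B V : Subgroup G} (h : ∀ v ∈ V, v ∈ A ∨ v ∈ B) : V ≤ A ∨ V ≤ B := by
  by_contra hc
  rw [not_or] at hc
  obtain ⟨h1, h2⟩ := hc
  obtain ⟨a, haV, haA⟩ := SetLike.not_le_iff_exists.1 h1
  obtain ⟨b, hbV, hbB⟩ := SetLike.not_le_iff_exists.1 h2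
  have haB : a ∈ B := (h a haV).resolve_left haA
  have hbA : b ∈ A := (h b hbV).resolve_right hbB
  rcases h (a * b) (V.mul_mem haV hbV) with h3 | h3
  · exact haA ((A.mul_mem_cancel_right hbA).1 h3)
  · exact hbB ((B.mul_mem_cancel_left haB).1 h3)

end FinNAux

open FinNAux in
theorem Ctx.fin_nab (C : Ctx p 2 x) {Q1 Q2 : Subgroup G} (hP : Par 2 x Q1 Q2) {y y' : G}
    (hy : Pt x Q1 y) (hy' : Pt x Q2 y') (hN1 : NAb x Q2 y) (hN2 : NAb x Q1 y') : False := by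
  have h1 : Blk 2 x Q1 := hP.1
  have h2 : Blk 2 x Q2 := hP.2.1
  have hZ2 : Zb x Q2 ≤ Q1 := C.l3 hP hy hy' hN1 hN2
  have hZ1 : Zb x Q1 ≤ Q2 := C.l3 (C.par_symm hP) hy' hy hN2 hN1
  set U : Subgroup G := Q1 ⊓ nor Q2 with hU
  -- elements of `U` are involutions
  have hUsq : ∀ h ∈ U, h * h = 1 := fun h hh =>
    C.l4 hP hy' hN2 hh.1 hh.2 (fun u hu => C.nab_cent hP hy hN1 hh.1 hh.2 hu)
      (hZ1 (C.sq_mem_zb h1 hh.1))
  have hcen : ∀ u ∈ Zb x Q2, u ≠ 1 → ∀ g : G, Commute g u → g ∈ nor Q2 :=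
    fun u hu hu1 g hg => C.cen_zb_le h2 hu hu1 (mem_cen.2 hg)
  have hZU : Zb x Q2 ≤ U := fun z hz => ⟨hZ2 hz, Subgroup.le_normalizer (zb_le x Q2 hz)⟩
  obtain ⟨i, hi⟩ := hN1
  have hsp : (y ^ i) ^ p = 1 := by
    rw [← pow_mul, mul_comm, pow_mul, ← C.ord_pt hy.1, pow_orderOf_eq_one, one_pow]
  have hsM : y ^ i ∈ nor Q1 := (nor Q1).pow_mem hy.2 i
  generalize y ^ i = s at hi hsp hsM
  have hsQ : ∀ a ∈ Q1, s * a * s⁻¹ ∈ Q1 := fun a ha => (mem_nor.1 hsM a).1 ha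
  have hsQ' : ∀ a ∈ Q1, s⁻¹ * a * s ∈ Q1 := fun a ha => by
    have := (mem_nor.1 ((nor Q1).inv_mem hsM) a).1 ha
    rwa [inv_inv] at this
  obtain ⟨u, hu, hu1⟩ := C.zb_ne_bot h2
  -- the commutator map onto `Z1`
  let f : Zb x Q2 → Zb x Q1 := fun z =>
    ⟨(s * z * s⁻¹) * u * (s * z * s⁻¹)⁻¹ * u⁻¹, C.comm_mem_zb h1 (hsQ _ (hZ2 z.2)) (hZ2 hu)⟩
  have hfi : Function.Injective f := by
    intro z z' hzz
    have h3 := comm_of_eq (congrArg Subtype.val hzz)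
    have h4 : (s * (z' : G) * s⁻¹)⁻¹ * (s * z * s⁻¹) = s * ((z' : G)⁻¹ * z) * s⁻¹ := by group
    rw [h4] at h3
    have h5 := hi _ ((Zb x Q2).mul_mem ((Zb x Q2).inv_mem z'.2) z.2) (hcen u hu hu1 _ h3)
    exact Subtype.ext (inv_mul_eq_one.1 h5).symm
  have hfs : Function.Surjective f :=
    ((Nat.bijective_iff_injective_and_card f).2 ⟨hfi, C.card_zb h2 h1⟩).2
  -- involutions of `Q1` lie in `U` or in its conjugate
  have hinv : ∀ g ∈ Q1, g * g = 1 → g ∈ U ∨ g ∈ cj s U := by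
    intro g hg hg2
    obtain ⟨z, hz⟩ := hfs ⟨g * u * g⁻¹ * u⁻¹, C.comm_mem_zb h1 hg (hZ2 hu)⟩
    have h3 := comm_of_eq (congrArg Subtype.val hz).symm
    have hw : s * (z : G) * s⁻¹ ∈ Q1 := hsQ _ (hZ2 z.2)
    have hhU : (s * (z : G) * s⁻¹)⁻¹ * g ∈ U :=
      ⟨Q1.mul_mem (Q1.inv_mem hw) hg, hcen u hu hu1 _ h3⟩
    by_cases hz1 : (z : G) = 1
    · left
      simpa [hz1] using hhU
    · right
      have hww : s * (z : G) * s⁻¹ * (s * (z : G) * s⁻¹) = 1 := by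
        calc s * (z : G) * s⁻¹ * (s * (z : G) * s⁻¹) = s * ((z : G) * z) * s⁻¹ := by group
          _ = 1 := by rw [C.zb_sq h2 z.2]; group
      have hc := comm_of_sq hww (hUsq _ hhU) (by rw [mul_inv_cancel_left]; exact hg2)
      have hc2 : Commute g (s * (z : G) * s⁻¹) := by
        have := (Commute.refl (s * (z : G) * s⁻¹)).mul_left hc
        rwa [mul_inv_cancel_left] at this
      exact mem_cj.2 ⟨hsQ' g hg, hcen z z.2 hz1 _ (comm_conj s hc2)⟩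
  have hV : ∀ v ∈ cj (s * s) U, v ∈ U ∨ v ∈ cj s U := by
    intro v hv
    have hv1 := mem_cj.1 hv
    refine hinv v ?_ ?_
    · have := hsQ _ (hsQ _ hv1.1)
      have h6 : s * (s * ((s * s)⁻¹ * v * (s * s)) * s⁻¹) * s⁻¹ = v := by group
      rwa [h6] at this
    · calc v * v = (s * s) * ((s * s)⁻¹ * v * (s * s) * ((s * s)⁻¹ * v * (s * s))) * (s * s)⁻¹ := by
            group
        _ = 1 := by rw [hUsq _ hv1]; group
  have hfin : s * u * s⁻¹ ∈ U := by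
    rcases le_or_le hV with h3 | h3
    · have h4 : cj (s * s) U = U := Subgroup.eq_of_le_of_card_ge h3 (card_cj _ _).ge
      have h5 : s * s ∈ nor U := cj_eq_self_iff.1 h4
      obtain ⟨k, hk⟩ := C.pp.odd_of_ne_two C.p2
      have h6 : s = (s * s) ^ (k + 1) := by
        rw [← pow_two, ← pow_mul, show 2 * (k + 1) = p + 1 by omega, pow_succ, hsp, one_mul]
      have h7 : s ∈ nor U := h6 ▸ (nor U).pow_mem h5 (k + 1)
      exact (mem_nor.1 h7 u).1 (hZU hu)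
    · have h4 : (s * s) * u * (s * s)⁻¹ ∈ cj (s * s) U := by
        refine mem_cj.2 ?_
        have : (s * s)⁻¹ * (s * s * u * (s * s)⁻¹) * (s * s) = u := by group
        rw [this]; exact hZU hu
      have h5 := mem_cj.1 (h3 h4)
      have h6 : s⁻¹ * (s * s * u * (s * s)⁻¹) * s = s * u * s⁻¹ := by group
      rwa [h6] at h5
  exact hu1 (hi u hu hfin.2)

end Cfsg.Agent.DT
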