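import Cfsg.Agent.DT.ZB

set_option autoImplicit false

namespace Cfsg.Agent.DT

variable {G : Type*} [Group G] [Finite G] {p q : ℕ} {x : G}

namespace FrAux

omit [Finite G] in
theorem conj_iff (g a : G) : IsConj x (g * a * g⁻¹) ↔ IsConj x a :=
  ⟨fun h => h.trans (isConj_iff.2 ⟨g, rfl⟩).symm, fun h => h.trans (isConj_iff.2 ⟨g, rfl⟩)⟩

/-- the left stabiliser of the class of `x` -/
def stab (x : G) : Subgroup G where
  carrier := {g | ∀ y, IsConj x y ↔ IsConj x (g * y)}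
  one_mem' := fun y => by rw [one_mul]
  mul_mem' := fun {a b} ha hb y => by rw [mul_assoc, ← ha, ← hb]
  inv_mem' := fun {a} ha y => by rw [ha (a⁻¹ * y), mul_inv_cancel_left]

omit [Finite G] in
theorem stab_normal (x : G) : (stab x).Normal := ⟨fun n hn g y => by
  rw [show g * n * g⁻¹ * y = g * (n * (g⁻¹ * y * g⁻¹⁻¹)) * g⁻¹ by group, conj_iff, ← hn, conj_iff]⟩

theorem image_eq (h : ∀ y, IsConj x y → IsConj (x * x) (x * y)) {y : G} (hy : IsConj x y) :
    (fun a => y * a) '' {a | IsConj x a} = {w | IsConj (x * x) w} := by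
  refine Set.eq_of_subset_of_ncard_le ?_ ?_ (Set.toFinite _)
  · rintro _ ⟨a, ha, rfl⟩
    obtain ⟨g, rfl⟩ := isConj_iff.1 hy
    have h1 := h _ ((conj_iff g⁻¹ a).2 ha)
    have h2 := (conj_iff (x := x * x) g _).2 h1
    change IsConj _ _
    convert h2 using 1
    group
  · rw [Set.ncard_image_of_injective _ (mul_right_injective y)]
    refine (Set.ncard_le_ncard (t := (fun a => a * a) '' {a | IsConj x a}) ?_ (Set.toFinite _)).trans
      (Set.ncard_image_le (Set.toFinite _))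
    intro w hw
    obtain ⟨g, rfl⟩ := isConj_iff.1 hw
    exact ⟨g * x * g⁻¹, isConj_iff.2 ⟨g, rfl⟩, by group⟩

omit [Finite G] in
theorem comm_of_sq (hx : Odd (orderOf x)) {a : G} (h : Commute a (x * x)) : Commute a x := by
  obtain ⟨k, hk⟩ := hx
  have e : (x * x) ^ (k + 1) = x := by
    rw [← sq, ← pow_mul, show 2 * (k + 1) = orderOf x + 1 by omega, pow_succ, pow_orderOf_eq_one, one_mul]
  have := h.pow_right (k + 1)
  rwa [e] at this

end FrAux

theorem fr_normal (x : G) (hx : Odd (orderOf x)) (h : ∀ y, IsConj x y → IsConj (x * x) (x * y)) :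
    ∃ N : Subgroup G, N.Normal ∧ (∀ y, IsConj x y → x⁻¹ * y ∈ N) ∧ ∀ n ∈ N, IsConj x (x * n) := by
  refine ⟨FrAux.stab x, FrAux.stab_normal x, fun y hy a => ?_, fun n hn => ?_⟩
  · have e := (FrAux.image_eq h hy).trans (FrAux.image_eq h (IsConj.refl x)).symm
    constructor
    · intro ha
      obtain ⟨b, hb, e1⟩ := e.le ⟨a, ha, rfl⟩
      have e2 : x * b = y * a := e1
      rw [mul_assoc, ← e2, inv_mul_cancel_left]
      exact hb
    · intro ha
      obtain ⟨b, hb, e1⟩ := e.ge ⟨_, ha, rfl⟩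
      have e2 : y * b = x * (x⁻¹ * y * a) := e1
      rw [mul_assoc, mul_inv_cancel_left, mul_right_inj] at e2
      exact e2 ▸ hb
  · have := (FrAux.conj_iff x _).2 ((hn x).1 (IsConj.refl x))
    convert this using 1
    group

theorem Ctx.zb_ne_bot (C : Ctx p q x) {Q : Subgroup G} (h : Blk q x Q) :
    ∃ z ∈ Zb x Q, z ≠ 1 := by
  by_contra hc
  push Not at hc
  have hodd : Odd (orderOf x) := by rw [C.ord]; exact C.pp.odd_of_ne_two C.p2
  have h0 : ∀ Q', Blk q x Q' → Zb x Q' = ⊥ := fun Q' h' => by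
    rw [← Subgroup.card_eq_one, C.card_zb h' h, Subgroup.card_eq_one]
    exact (Subgroup.eq_bot_iff_forall _).2 hc
  have h1 : ∀ y, IsConj x y → IsConj (x * x) (x * y) := by
    intro y hy
    by_cases e : x = y
    · rw [← e]
    obtain ⟨Q', hQ', hx', hy'⟩ := C.two_pts (IsConj.refl x) hy e
    obtain ⟨t, ht, rfl⟩ := C.blk_pts hQ' hx' hy'
    have hn : ∀ a ∈ Q', x⁻¹ * a * x ∈ Q' := fun a ha => by
      simpa using (mem_nor.1 (inv_mem hx'.2) a).1 ha
    let φ : Q' → Q' := fun s => ⟨x⁻¹ * (x⁻¹ * s.1⁻¹ * x) * x * s.1, mul_mem (hn _ (hn _ (inv_mem s.2))) s.2⟩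
    have hinj : Function.Injective φ := by
      intro s u hsu
      have e1 : x⁻¹ * (x⁻¹ * s.1⁻¹ * x) * x * s.1 = x⁻¹ * (x⁻¹ * u.1⁻¹ * x) * x * u.1 := congrArg Subtype.val hsu
      have e2 : Commute (u.1 * s.1⁻¹) (x * x) := by
        change _ = _
        calc u.1 * s.1⁻¹ * (x * x) = u.1 * (x * x) * (x⁻¹ * (x⁻¹ * s.1⁻¹ * x) * x * s.1) * s.1⁻¹ := by group
          _ = _ := by rw [e1]; group
      have e3 : u.1 * s.1⁻¹ ∈ Zb x Q' :=
        (C.zb_iff hQ' hx').2 ⟨mul_mem u.2 (inv_mem s.2), FrAux.comm_of_sq hodd e2⟩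
      rw [h0 Q' hQ', Subgroup.mem_bot, mul_inv_eq_one] at e3
      exact Subtype.ext e3.symm
    obtain ⟨s, hs⟩ := Finite.injective_iff_surjective.1 hinj
      ⟨x⁻¹ * t⁻¹ * x * t, mul_mem (hn _ (inv_mem ht)) ht⟩
    have e1 : x⁻¹ * (x⁻¹ * s.1⁻¹ * x) * x * s.1 = x⁻¹ * t⁻¹ * x * t := congrArg Subtype.val hs
    refine isConj_iff.2 ⟨s.1⁻¹, ?_⟩
    calc s.1⁻¹ * (x * x) * s.1⁻¹⁻¹ = x * x * (x⁻¹ * (x⁻¹ * s.1⁻¹ * x) * x * s.1) := by group
      _ = _ := by rw [e1]; group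
  obtain ⟨N, hN, h2, h3⟩ := fr_normal x hodd h1
  have h4 : ∀ n ∈ N, x * n * x⁻¹ = n → n = 1 := fun n hn e => by
    have hcm : Commute x n := mul_inv_eq_iff_eq_mul.1 e
    have := C.comm_pts (IsConj.refl x) (h3 n hn) ((Commute.refl x).mul_right hcm)
    exact left_eq_mul.1 this
  have h5 : N = ⊥ := by
    refine C.opp N hN ?_
    rw [Nat.coprime_comm, C.pp.coprime_iff_not_dvd]
    intro hd
    haveI : Fact p.Prime := ⟨C.pp⟩
    have hP : IsPGroup p (Subgroup.zpowers x) :=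
      IsPGroup.of_card (n := 1) (by rw [Nat.card_zpowers, C.ord, pow_one])
    letI : MulAction (Subgroup.zpowers x) N :=
      MulAction.compHom N ((MulAut.conjNormal (H := N)).comp (Subgroup.zpowers x).subtype)
    obtain ⟨b, hb, hne⟩ := hP.exists_fixed_point_of_prime_dvd_card_of_fixed_point N hd (a := 1)
      (fun g => map_one (MulAut.conjNormal (H := N) g.1))
    have e : MulAut.conjNormal (H := N) x b = b := hb ⟨x, Subgroup.mem_zpowers x⟩
    exact hne (Subtype.ext (h4 b b.2 (congrArg Subtype.val e)).symm)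
  obtain ⟨y, hy, hne⟩ := C.exists_other x
  have := h2 y hy
  rw [h5, Subgroup.mem_bot, inv_mul_eq_one] at this
  exact hne this.symm

end Cfsg.Agent.DT
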