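import Cfsg.Agent.DT.FinN

set_option autoImplicit false

namespace Cfsg.Agent.DT

variable {G : Type*} [Group G] [Finite G] {p q : ℕ} {x : G}

theorem Ctx.dich (C : Ctx p 2 x) {Q1 Q2 : Subgroup G} (hP : Par 2 x Q1 Q2) :
    Zb x Q2 ≤ Q1 ∨ Zb x Q1 ≤ Q2 := by
  obtain ⟨y, hy⟩ := hP.1.exists_pt
  obtain ⟨y', hy'⟩ := hP.2.1.exists_pt
  rcases C.ab_or_nab hP.2.1 y with h | h
  · exact Or.inl (C.le_of_ab hP hy h)
  · rcases C.ab_or_nab hP.1 y' with h' | h'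
    · exact Or.inr (C.le_of_ab (C.par_symm hP) hy' h')
    · exact (C.fin_nab hP hy hy' h h').elim

theorem Ctx.full_aux (C : Ctx p 2 x) {Q1 Q2 : Subgroup G} (hP : Par 2 x Q1 Q2)
    (h12 : Zb x Q1 ≤ Q2) : Zb x Q2 ≤ Q1 := by
  have h1 := hP.1
  have h2 := hP.2.1
  have hne := hP.2.2.1
  have hnle : ¬ Q2 ≤ nor Q1 := fun h => hne (C.uq h1 h2 h)
  obtain ⟨h, hh2, hh1⟩ := SetLike.not_le_iff_exists.mp hnle
  have h4 : Blk 2 x (cj h Q1) := h1.cj h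
  have hne4 : cj h Q1 ≠ Q1 := fun e => hh1 (cj_eq_self_iff.mp e)
  have hZ2 : Zb x Q2 ≤ nor Q1 := C.par_le (C.par_symm hP)
  have hcz : ∀ z ∈ Zb x Q1, h * z * h⁻¹ ∈ Zb x (cj h Q1) := by
    intro z hz
    rw [zb_cj, mem_cj]
    simpa [mul_assoc] using hz
  have hcm : ∀ z ∈ Zb x Q1, h * z * h⁻¹ * z⁻¹ ∈ Zb x Q2 := fun z hz =>
    C.comm_mem_zb h2 hh2 (h12 hz)
  have hP4 : Par 2 x (cj h Q1) Q1 := by
    obtain ⟨z, hz, hz1⟩ := C.zb_ne_bot h1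
    refine ⟨h4, h1, hne4, h * z * h⁻¹, hcz z hz, ?_, ?_⟩
    · intro e
      apply hz1
      have : z = h⁻¹ * (h * z * h⁻¹) * h := by group
      rw [this, e]; group
    · have : h * z * h⁻¹ = (h * z * h⁻¹ * z⁻¹) * z := by group
      rw [this]
      exact (nor Q1).mul_mem (hZ2 (hcm z hz)) (Subgroup.le_normalizer (zb_le x Q1 hz))
  have hsq : h * h ∈ nor Q1 := hZ2 (C.sq_mem_zb h2 hh2)
  have key : ∀ z ∈ Zb x Q1, h * z * h⁻¹ ∈ Q1 := by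
    rcases C.dich hP4 with hd | hd
    · intro z hz
      have hz4 := hd hz
      rw [mem_cj] at hz4
      have := (mem_nor.mp hsq _).mp hz4
      have e : h * h * (h⁻¹ * z * h) * (h * h)⁻¹ = h * z * h⁻¹ := by group
      rwa [e] at this
    · intro z hz
      exact hd (hcz z hz)
  let f : Zb x Q1 → Zb x Q2 := fun z => ⟨h * z * h⁻¹ * (z : G)⁻¹, hcm z z.2⟩
  have hf : Function.Injective f := by
    intro z w e
    have e' : h * z * h⁻¹ * (z : G)⁻¹ = h * w * h⁻¹ * (w : G)⁻¹ := congrArg Subtype.val e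
    have hm : (w : G)⁻¹ * z ∈ Zb x Q1 := (Zb x Q1).mul_mem ((Zb x Q1).inv_mem w.2) z.2
    have e2 : h * ((w : G)⁻¹ * z) * h⁻¹ = (w : G)⁻¹ * z := by
      calc h * ((w : G)⁻¹ * z) * h⁻¹ = (h * (w : G)⁻¹ * h⁻¹) * (h * z * h⁻¹ * (z : G)⁻¹) * z := by group
        _ = (h * (w : G)⁻¹ * h⁻¹) * (h * w * h⁻¹ * (w : G)⁻¹) * z := by rw [e']
        _ = (w : G)⁻¹ * z := by group
    have h4m := hcz _ hm
    rw [e2] at h4m
    have := C.zb_ti h4 h1 hne4 h4m hm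
    exact Subtype.ext (inv_mul_eq_one.mp this).symm
  have hbij : Function.Bijective f :=
    (Nat.bijective_iff_injective_and_card f).mpr ⟨hf, C.card_zb h1 h2⟩
  intro u hu
  obtain ⟨z, hz⟩ := hbij.2 ⟨u, hu⟩
  have e : h * z * h⁻¹ * (z : G)⁻¹ = u := congrArg Subtype.val hz
  rw [← e]
  exact Q1.mul_mem (key z z.2) (Q1.inv_mem (zb_le x Q1 z.2))

theorem Ctx.full (C : Ctx p 2 x) {Q1 Q2 : Subgroup G} (hP : Par 2 x Q1 Q2) : Zb x Q2 ≤ Q1 := by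
  rcases C.dich hP with h | h
  · exact h
  · exact C.full_aux hP h

end Cfsg.Agent.DT
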