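import Cfsg.Agent.DT.Cop
import Cfsg.Agent.DT.Cop2

set_option autoImplicit false

namespace Cfsg.Agent.DT

variable {G : Type*} [Group G] [Finite G] {p q : ℕ} {x : G}

namespace I1Aux

omit [Finite G] in
theorem map_cm {G' : Type*} [Group G'] (f : G →* G') (R : Subgroup G) (y : G) :
    (cm R y).map f = cm (R.map f) (f y) := by
  rw [Subgroup.map_commutator, MonoidHom.map_zpowers]

omit [Finite G] in
theorem map_nor {G' : Type*} [Group G'] (f : G →* G') {R : Subgroup G} {y : G} (h : y ∈ nor R) :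
    f y ∈ nor (R.map f) :=
  Subgroup.le_normalizer_map f (Subgroup.mem_map_of_mem f h)

omit [Finite G] in
theorem comm_coe {L : Subgroup G} {a b : L} : Commute (a : G) (b : G) ↔ Commute a b :=
  ⟨fun h => Subtype.ext h, fun h => congrArg Subtype.val h⟩

end I1Aux

open I1Aux

set_option linter.unusedSectionVars false

theorem h1_sub (L : Subgroup G) (y : L) (h : H1 q (y : G)) : H1 q y := by
  intro y' hy'
  obtain ⟨R, h1, h2, h3⟩ := h y' (L.subtype.map_isConj hy')
  refine ⟨R.subgroupOf L, h1.comap_subtype, mem_nor.2 fun a => ?_, h3⟩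
  exact mem_nor.1 h2 a

theorem h2_sub (L : Subgroup G) (y : L) (h : H2 q (y : G)) : H2 q y := by
  intro R hR hy a ha
  have key : ∀ b ∈ cm R y, (b : G) ∈ cm (R.map L.subtype) (y : G) := fun b hb => by
    have := Subgroup.mem_map_of_mem L.subtype hb
    rwa [map_cm] at this
  obtain ⟨h1, h2, h3⟩ := h (R.map L.subtype) (hR.map _) (map_nor L.subtype hy) a (key a ha)
  exact ⟨comm_coe.1 h1, fun b hb => comm_coe.1 (h2 b (key b hb)),
    fun e b hb => comm_coe.1 (h3 (comm_coe.2 e) b (key b hb))⟩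

theorem cm_sub (L : Subgroup G) (y : L) (h : IsPGroup q (cm (⊤ : Subgroup L) y)) :
    IsPGroup q (cm L (y : G)) := by
  have := h.map L.subtype
  rwa [map_cm, ← MonoidHom.range_eq_map, Subgroup.range_subtype] at this

theorem h1_quot (N : Subgroup G) [N.Normal] (h : H1 q x) : H1 q (QuotientGroup.mk x : G ⧸ N) := by
  intro y hy
  obtain ⟨c, rfl⟩ := isConj_iff.1 hy
  obtain ⟨g, rfl⟩ := QuotientGroup.mk_surjective c
  obtain ⟨R, h1, h2, h3⟩ := h (g * x * g⁻¹) (isConj_iff.2 ⟨g, rfl⟩)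
  exact ⟨R.map (QuotientGroup.mk' N), h1.map _, map_nor (QuotientGroup.mk' N) h2,
    Subgroup.mem_map_of_mem (QuotientGroup.mk' N) h3⟩

open scoped Pointwise in
/-- an element of prime order `p` normalizing a `p'`-subgroup `K` normalizes a Sylow `r`-subgroup of `K`. -/
theorem exists_inv_sylow (hp : p.Prime) {r : ℕ} (hr : r.Prime) (K : Subgroup G)
    (hK : (Nat.card K).Coprime p) (hx : x ^ p = 1) (hxK : x ∈ nor K) :
    ∃ S : Subgroup G, S ≤ K ∧ IsPGroup r S ∧ x ∈ nor S ∧ ¬ r ∣ S.relIndex K := by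
  have := Fact.mk hp
  have := Fact.mk hr
  let α : MulAut K := K.normalizerMonoidHom ⟨x, hxK⟩
  have hα : ∀ k : K, ((α k : K) : G) = x * k * x⁻¹ := fun k => rfl
  have hαp : α ^ p = 1 := by
    rw [← map_pow, show (⟨x, hxK⟩ : nor K) ^ p = 1 from Subtype.ext hx, map_one]
  have hX : IsPGroup p (Subgroup.zpowers α) := by
    rintro ⟨_, n, rfl⟩
    refine ⟨1, Subtype.ext ?_⟩
    show (α ^ n) ^ p ^ 1 = 1
    rw [pow_one, ← zpow_natCast, ← zpow_mul, mul_comm, zpow_mul, zpow_natCast, hαp, one_zpow]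
  have hc : ¬ p ∣ Nat.card (Sylow r K) := fun h => by
    obtain ⟨S⟩ : Nonempty (Sylow r K) := inferInstance
    exact (Nat.Prime.coprime_iff_not_dvd hp).1 hK.symm
      ((h.trans S.card_dvd_index).trans (Subgroup.index_dvd_card _))
  obtain ⟨S, hS⟩ := hX.nonempty_fixed_point_of_prime_not_dvd_card (Sylow r K) hc
  have e : α • S = S := hS ⟨α, Subgroup.mem_zpowers α⟩
  have e' : ∀ k : K, α k ∈ (S : Subgroup K) ↔ k ∈ (S : Subgroup K) := fun k => by
    conv_lhs => rw [← e]
    exact Subgroup.smul_mem_pointwise_smul_iff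
  refine ⟨(S : Subgroup K).map K.subtype, Subgroup.map_subtype_le _, S.isPGroup'.map _, mem_nor.2 fun a => ?_, ?_⟩
  · constructor
    · rintro ⟨k, hk, rfl⟩
      exact ⟨α k, (e' k).2 hk, hα k⟩
    · rintro ⟨k, hk, h⟩
      have ha : a ∈ K := (mem_nor.1 hxK a).2 (h ▸ k.2)
      have : α ⟨a, ha⟩ = k := Subtype.ext h.symm
      exact ⟨⟨a, ha⟩, (e' _).1 (this ▸ hk), rfl⟩
  · rw [Subgroup.relIndex, ← Subgroup.comap_subtype,
      Subgroup.comap_map_eq_self_of_injective K.subtype_injective]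
    exact S.not_dvd_index

end Cfsg.Agent.DT
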