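import Cfsg.Agent.DT.I1

set_option autoImplicit false

namespace Cfsg.Agent.DT

variable {G : Type*} [Group G] [Finite G] {p q : ℕ} {x : G}

namespace I2Aux

theorem cop_comap (hp : p.Prime) (hq : q.Prime) (hpq : p ≠ q) (N : Subgroup G) [N.Normal]
    (hN : (Nat.card N).Coprime p) {R : Subgroup (G ⧸ N)} (hR : IsPGroup q R) :
    (Nat.card (R.comap (QuotientGroup.mk' N))).Coprime p := by
  haveI := Fact.mk hp
  rw [Nat.coprime_comm, hp.coprime_iff_not_dvd]
  intro h
  obtain ⟨k, hk⟩ := exists_prime_orderOf_dvd_card' p h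
  rw [← Subgroup.orderOf_coe] at hk
  obtain ⟨n, hn⟩ := hR ⟨_, k.2⟩
  have h1 : orderOf (QuotientGroup.mk' N k) ∣ q ^ n :=
    orderOf_dvd_of_pow_eq_one (congrArg Subtype.val hn)
  have h2 : orderOf (QuotientGroup.mk' N k) ∣ p := hk ▸ orderOf_map_dvd _ _
  have h3 : QuotientGroup.mk' N k = 1 := orderOf_eq_one_iff.1
    (Nat.eq_one_of_dvd_coprimes (((Nat.coprime_primes hp hq).2 hpq).pow_right n) h2 h1)
  have h4 : p ∣ Nat.card N := hk ▸ Subgroup.orderOf_dvd_natCard N ((QuotientGroup.eq_one_iff _).1 h3)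
  exact hp.one_lt.ne' (Nat.eq_one_of_dvd_coprimes hN h4 dvd_rfl)

theorem map_eq (hq : q.Prime) {H : Type*} [Group H] [Finite H] (f : G →* H) (hf : Function.Surjective f)
    {R : Subgroup H} (hR : IsPGroup q R) {S : Subgroup G} (hS : S ≤ R.comap f)
    (hi : ¬ q ∣ S.relIndex (R.comap f)) : S.map f = R := by
  haveI := Fact.mk hq
  refine le_antisymm (Subgroup.map_le_iff_le_comap.2 hS) (Subgroup.relIndex_eq_one.1 ?_)
  have d : (S.map f).relIndex R ∣ S.relIndex (R.comap f) := by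
    conv_lhs => rw [← Subgroup.map_comap_eq_self_of_surjective hf R, ← Subgroup.relIndex_comap]
    exact Subgroup.relIndex_dvd_of_le_left _ (Subgroup.le_comap_map f S)
  obtain ⟨n, hn⟩ := hR.index ((S.map f).subgroupOf R)
  rcases n with _ | n
  · exact hn
  · exact absurd (((dvd_pow_self q n.succ_ne_zero).trans hn.symm.dvd).trans d) hi

end I2Aux

theorem h2_quot (hp : p.Prime) (hq : q.Prime) (hpq : p ≠ q) (hx : x ^ p = 1) (N : Subgroup G)
    [N.Normal] (hN : (Nat.card N).Coprime p) (h : H2 q x) :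
    H2 q (QuotientGroup.mk x : G ⧸ N) := by
  intro R hR hxR
  let f := QuotientGroup.mk' N
  have hxK : x ∈ nor (R.comap f) := mem_nor.2 fun a => by
    rw [Subgroup.mem_comap, Subgroup.mem_comap, map_mul, map_mul, map_inv]
    exact mem_nor.1 hxR _
  obtain ⟨S, hS, pS, xS, iS⟩ := exists_inv_sylow hp hq _ (I2Aux.cop_comap hp hq hpq N hN hR) hx hxK
  have e : cm R (QuotientGroup.mk x : G ⧸ N) = (cm S x).map f := by
    rw [Subgroup.map_commutator, MonoidHom.map_zpowers,
      I2Aux.map_eq hq f (QuotientGroup.mk'_surjective N) hR hS iS]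
    rfl
  rw [e]
  rintro _ ⟨a, ha, rfl⟩
  obtain ⟨h1, h2, -⟩ := h S pS xS a ha
  refine ⟨?_, ?_, fun hc => ?_⟩
  · rw [← map_pow]
    exact h1.map f
  · rintro _ ⟨b, hb, rfl⟩
    rw [← map_inv, ← map_inv, ← map_mul, ← map_mul, ← map_mul]
    exact (h2 b hb).map f
  · rintro _ ⟨b, hb, rfl⟩
    let W := cm S x ⊓ (cen (f x)).comap f
    have xW : x ∈ nor W := nor_inf_le_nor_inf _ _
      ⟨mem_nor_cm S x, Subgroup.le_normalizer (mem_cen.2 (Commute.refl _) : f x ∈ cen (f x))⟩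
    have WN : cm W x ≤ N := cm_le_of (by rw [nor, Subgroup.normalizer_eq_top]; trivial) fun w hw => by
      rw [← QuotientGroup.eq_one_iff]
      change f _ = 1
      rw [map_mul, map_mul, map_mul, map_inv, map_inv, (mem_cen.1 hw.2).eq]
      group
    obtain ⟨a', ha', c, hc', cx, rfl⟩ := cop_decomp hp hq hpq
      (pS.to_le (inf_le_left.trans (cm_le xS))) hx xW (r := a) ⟨ha, mem_cen.2 hc⟩
    have z : f a' = 1 := (QuotientGroup.eq_one_iff _).2 (WN ha')
    rw [map_mul, z, one_mul]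
    exact ((h S pS xS c hc'.1).2.2 cx b hb).map f

end Cfsg.Agent.DT
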