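import Cfsg.Agent.DT.I1
import Cfsg.Agent.H49.Prod

set_option autoImplicit false

namespace Cfsg.Agent.DT

variable {G : Type*} [Group G] [Finite G] {p q : ℕ} {x : G}

theorem I3.eq_one {r : ℕ} (hq : q.Prime) (hr : r.Prime) (hne : r ≠ q) {A B : Subgroup G}
    (hA : IsPGroup r A) (hB : IsPGroup q B) {g : G} (h1 : g ∈ A) (h2 : g ∈ B) : g = 1 := by
  haveI := Fact.mk hq
  haveI := Fact.mk hr
  have := IsPGroup.disjoint_of_ne r q hne A B hA hB
  exact (Subgroup.disjoint_def.mp this) h1 h2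

theorem good_of_quot (hp : p.Prime) (hq : q.Prime) (hpq : p ≠ q) (hx : x ^ p = 1) (N : Subgroup G)
    [N.Normal] (hN : (Nat.card N).Coprime p) (h1 : H1 q x)
    (h : IsPGroup q (cm (⊤ : Subgroup (G ⧸ N)) (QuotientGroup.mk x))) :
    IsPGroup q (cm (⊤ : Subgroup G) x) := by
  haveI := Fact.mk hp
  haveI := Fact.mk hq
  set K := cm (⊤ : Subgroup G) x with hK
  have hmap : K.map (QuotientGroup.mk' N) = cm (⊤ : Subgroup (G ⧸ N)) (QuotientGroup.mk x) := by
    rw [hK, Subgroup.map_commutator, MonoidHom.map_zpowers,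
      Subgroup.map_top_of_surjective _ (QuotientGroup.mk'_surjective N)]
    rfl
  have hKp : (Nat.card K).Coprime p := by
    rw [Nat.coprime_comm, hp.coprime_iff_not_dvd]
    intro hd
    obtain ⟨g, hg⟩ := exists_prime_orderOf_dvd_card' p hd
    have hgo : orderOf (g : G) = p := by rw [Subgroup.orderOf_coe, hg]
    have hm : QuotientGroup.mk' N g ∈ cm (⊤ : Subgroup (G ⧸ N)) (QuotientGroup.mk x) :=
      hmap ▸ Subgroup.mem_map_of_mem _ g.2
    obtain ⟨k, hk⟩ := h ⟨_, hm⟩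
    have hk' : (QuotientGroup.mk' N g) ^ q ^ k = 1 := congrArg Subtype.val hk
    have hp' : (QuotientGroup.mk' N (g : G)) ^ p = 1 := by
      rw [← map_pow, ← hgo, pow_orderOf_eq_one, map_one]
    have hcop : Nat.Coprime p (q ^ k) := ((Nat.coprime_primes hp hq).mpr hpq).pow_right k
    have h1' : QuotientGroup.mk' N (g : G) = 1 := by
      rw [← orderOf_eq_one_iff]
      exact Nat.eq_one_of_dvd_coprimes hcop (orderOf_dvd_of_pow_eq_one hp')
        (orderOf_dvd_of_pow_eq_one hk')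
    have hgN : (g : G) ∈ N := (QuotientGroup.eq_one_iff _).mp h1'
    have : p ∣ Nat.card N := hgo ▸ Subgroup.orderOf_dvd_natCard N hgN
    exact (hp.coprime_iff_not_dvd.mp hN.symm) this
  have hxK : x ∈ nor K := mem_nor_cm ⊤ x
  set C := K ⊓ cen x with hC
  obtain ⟨S, hSK, hS, hxS, hSi⟩ := exists_inv_sylow hp hq K hKp hx hxK
  have hcop : (C.relIndex K).Coprime (S.relIndex K) := by
    apply Nat.coprime_of_dvd
    intro r hr hrC hrS
    by_cases hrq : r = q
    · exact hSi (hrq ▸ hrS)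
    obtain ⟨T, hTK, hT, hxT, hTi⟩ := exists_inv_sylow hp hr K hKp hx hxK
    have hTC : T ≤ C := by
      intro t ht
      refine ⟨hTK ht, mem_cen.mpr ?_⟩
      obtain ⟨R, hR, -, hm⟩ := h1 (t * x * t⁻¹) (isConj_iff.mpr ⟨t, rfl⟩)
      have hm' : x⁻¹ * (t * x * t⁻¹) ∈ T := by
        have := (mem_nor.mp (inv_mem hxT) t).mp ht
        have e : x⁻¹ * (t * x * t⁻¹) = x⁻¹ * t * x⁻¹⁻¹ * t⁻¹ := by group
        rw [e]
        exact mul_mem this (inv_mem ht)
      have := I3.eq_one hq hr hrq hT hR hm' hm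
      have e : t * x = x * (x⁻¹ * (t * x * t⁻¹)) * t := by group
      show t * x = x * t
      rw [e, this, mul_one]
    exact hTi (hrC.trans (Subgroup.relIndex_dvd_of_le_left K hTC))
  have hprod := H49.isProd_of_coprime_relIndex (inf_le_left : C ≤ K) hSK hcop
  have hKS : K ≤ S := by
    refine cm_le_of hxS fun g _ => ?_
    obtain ⟨R, hR, hxR, hm⟩ := h1 (g * x * g⁻¹) (isConj_iff.mpr ⟨g, rfl⟩)
    have hyp : (g * x * g⁻¹) ^ p = 1 := by rw [conj_pow, hx]; simp
    obtain ⟨t, ht, e⟩ := cop_conj hp hq hpq hR hx hyp hxR hm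
    have htK : t ∈ K := Subgroup.commutator_mono le_top le_rfl ht
    obtain ⟨c, hc, s, hs, rfl⟩ := hprod.2.2 t htK
    have hcx : c * x = x * c := mem_cen.mp hc.2
    have e2 : g * x * g⁻¹ * x⁻¹ = s⁻¹ * (x * s * x⁻¹) := by
      rw [e]
      have : (c * s)⁻¹ * x * (c * s) = s⁻¹ * (c⁻¹ * (x * c)) * s := by group
      rw [this, ← hcx]
      group
    rw [e2]
    exact mul_mem (inv_mem hs) ((mem_nor.mp hxS s).mp hs)
  exact hS.to_le hKS

end Cfsg.Agent.DT
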