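import Cfsg.Agent.DT.I2
import Cfsg.Agent.DT.I3
import Cfsg.Agent.DT.Even
import Cfsg.Agent.DTO.Main

set_option autoImplicit false

namespace Cfsg.Agent.DT

universe u

theorem tq_aux {p q : ℕ} (hp : p.Prime) (hq : q.Prime) (hp2 : p ≠ 2) (hpq : p ≠ q) (n : ℕ) :
    ∀ (G : Type u) [Group G] [Finite G], Nat.card G = n → ∀ x : G, orderOf x = p →
      H1 q x → H2 q x → IsPGroup q (cm (⊤ : Subgroup G) x) := by
  induction n using Nat.strong_induction_on with
  | _ n ih =>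
  intro G _ _ hn x hx h1 h2
  by_contra bad
  have hxp : x ^ p = 1 := hx ▸ pow_orderOf_eq_one x
  have loc : ∀ (L : Subgroup G) (y : G), L ≠ ⊤ → y ∈ L → IsConj x y → IsPGroup q (cm L y) := by
    intro L y hL hy hxy
    refine cm_sub L ⟨y, hy⟩ (ih _ ?_ L rfl ⟨y, hy⟩ ?_ (h1_sub L _ (h1_conj h1 hxy))
      (h2_sub L _ (h2_conj h2 hxy)))
    · rw [← hn]
      exact lt_of_le_of_ne L.card_le_card_group fun h => hL (Subgroup.eq_top_of_card_eq L h)
    · obtain ⟨g, rfl⟩ := isConj_iff.1 hxy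
      rw [← Subgroup.orderOf_coe, ← hx]
      exact (MulAut.conj g).orderOf_eq x
  have opp : ∀ N : Subgroup G, N.Normal → (Nat.card N).Coprime p → N = ⊥ := by
    intro N hN hc
    by_contra hne
    refine bad (good_of_quot hp hq hpq hxp N hc h1 (ih _ ?_ (G ⧸ N) rfl _ ?_ (h1_quot N h1)
      (h2_quot hp hq hpq hxp N hc h2)))
    · rw [← hn, Subgroup.card_eq_card_quotient_mul_card_subgroup N]
      exact lt_mul_of_one_lt_right Nat.card_pos (N.one_lt_card_iff_ne_bot.mpr hne)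
    · have : Fact p.Prime := ⟨hp⟩
      refine orderOf_eq_prime (by rw [← QuotientGroup.mk_pow, hxp, QuotientGroup.mk_one]) fun h => ?_
      have h3 := Subgroup.orderOf_dvd_natCard N ((QuotientGroup.eq_one_iff x).1 h)
      rw [hx] at h3
      exact hp.one_lt.ne' (Nat.Coprime.eq_one_of_dvd hc.symm h3)
  have gen : Subgroup.closure {y : G | IsConj x y} = ⊤ := by
    by_contra hne
    set L := Subgroup.closure {y : G | IsConj x y} with hL
    have hxL : x ∈ L := Subgroup.subset_closure (IsConj.refl x)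
    have hq' := loc L x hne hxL (IsConj.refl x)
    refine bad (hq'.to_le (cm_le_of (mem_nor_cm L x) fun a _ => ?_))
    obtain ⟨R, hR, hxR, hm⟩ := h1 (a * x * a⁻¹) (isConj_iff.2 ⟨a, rfl⟩)
    have haL : a * x * a⁻¹ ∈ L := Subgroup.subset_closure (isConj_iff.2 ⟨a, rfl⟩)
    have hRL : x⁻¹ * (a * x * a⁻¹) ∈ R ⊓ L := Subgroup.mem_inf.2 ⟨hm, L.mul_mem (L.inv_mem hxL) haL⟩
    obtain ⟨t', ht', hte'⟩ := cop_conj hp hq hpq (hR.to_le inf_le_left : IsPGroup q (R ⊓ L : Subgroup G))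
      hxp (by rw [conj_pow, hxp]; simp)
      (nor_inf_le_nor_inf _ _ ⟨hxR, Subgroup.le_normalizer hxL⟩) hRL
    have h4 : t' ∈ L := (cm_le (nor_inf_le_nor_inf _ _ ⟨hxR, Subgroup.le_normalizer hxL⟩) ht').2
    rw [hte']
    have h5 := (comm_mem_cm x (inv_mem h4)).1
    rwa [inv_inv] at h5
  have C : Ctx p q x := ⟨hp, hq, hp2, hpq, hx, h1, h2, opp, loc, gen, bad⟩
  by_cases h : q = 2
  · subst h
    exact C.even_case
  · exact DTO.odd_case C h

variable {G : Type*} [Group G] [Finite G] {p q : ℕ} {x : G}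

theorem tq (hp : p.Prime) (hq : q.Prime) (hp2 : p ≠ 2) (hpq : p ≠ q) (x : G) (hx : orderOf x = p)
    (h1 : H1 q x) (h2 : H2 q x) : IsPGroup q (cm (⊤ : Subgroup G) x) :=
  tq_aux hp hq hp2 hpq _ G rfl x hx h1 h2

end Cfsg.Agent.DT
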