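import Cfsg.Agent.DT.F5
import Cfsg.Agent.DT.E5

set_option autoImplicit false

namespace Cfsg.Agent.DT

variable {G : Type*} [Group G] [Finite G] {p q : ℕ} {x : G}

theorem L1Aux.conj_zb {Q : Subgroup G} (g : G) {z : G} (hz : z ∈ Zb x Q) : g * z * g⁻¹ ∈ Zb x (cj g Q) := by
  rw [zb_cj, mem_cj]
  simpa [mul_assoc] using hz

theorem Ctx.ab_or_nab (C : Ctx p 2 x) {Q : Subgroup G} (h : Blk 2 x Q) (y : G) :
    Ab x Q y ∨ NAb x Q y := by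
  by_cases hN : NAb x Q y
  · exact Or.inr hN
  refine Or.inl fun i z hz w hw => ?_
  have hz' := L1Aux.conj_zb (y ^ i) hz
  by_cases e : cj (y ^ i) Q = Q
  · rw [e] at hz'
    exact C.zb_central h hz' (zb_le x Q hw)
  · obtain ⟨z0, hz0, h0, h1⟩ : ∃ z0 ∈ Zb x Q, y ^ i * z0 * (y ^ i)⁻¹ ∈ nor Q ∧ z0 ≠ 1 := by
      by_contra hc
      exact hN ⟨i, fun z0 hz0 h0 => by_contra fun h1 => hc ⟨z0, hz0, h0, h1⟩⟩
    exact C.par_comm ⟨h.cj _, h, e, _, L1Aux.conj_zb (y ^ i) hz0, fun e' => h1 (by simpa using e'), h0⟩ hz' hw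

theorem Ctx.le_of_ab (C : Ctx p 2 x) {Q1 Q2 : Subgroup G} (hP : Par 2 x Q1 Q2) {y : G}
    (hy : Pt x Q1 y) (hA : Ab x Q2 y) : Zb x Q2 ≤ Q1 := by
  intro u hu
  by_contra huQ
  have hu2 : u * u = 1 := C.zb_sq hP.2.1 hu
  obtain ⟨a, d, hD⟩ := C.dec hP.1 hy (C.par_le (C.par_symm hP) hu) hu2
  refine C.f5 hP hy hu huQ hD (C.sq_one hP.1 hy hD.1 fun i => ?_)
  have hda : Commute d a := (hD.facts hu2).1
  obtain ⟨-, -, hdy, rfl, hdi⟩ := hD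
  have h1 := hA i _ hu _ hu
  have h2 : y ^ i * (a * d) * (y ^ i)⁻¹ = y ^ i * a * (y ^ i)⁻¹ * d := by
    rw [mul_assoc _ _ d, ← ((hdy.pow_right i).inv_right).eq]; group
  rw [h2] at h1
  have h3 : Commute (y ^ i * a * (y ^ i)⁻¹ * d) d := (hdi i).symm.mul_left (Commute.refl d)
  have h4 := h1.mul_right h3.inv_right
  rw [mul_inv_cancel_right] at h4
  have h5 := h4.mul_left hda.inv_left
  rw [mul_inv_cancel_right] at h5
  exact h5.symm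

theorem Ctx.nab_dh (C : Ctx p 2 x) {Q1 Q2 : Subgroup G} (h1 : Blk 2 x Q1) (h2 : Blk 2 x Q2) {y : G}
    (hy : Pt x Q1 y) (hN : NAb x Q2 y) {t : G} (ht : t ∈ nor Q1) (ht2 : t * t = 1)
    (htZ : ∀ z ∈ Zb x Q1, Commute t z) {w : G} (hw : w ∈ Dh x Q1 t) (hw2 : w ∈ Zb x Q2) :
    w = 1 := by
  by_contra hw1
  obtain ⟨i, hi⟩ := hN
  have h3 := (mem_nor.1 (pow_mem (C.dh_nor h1 ht hy) i) w).1 hw
  exact hw1 (hi w hw2 (C.cen_zb_le h2 hw2 hw1 (mem_cen.2 ((C.ts h1 ht ht2 htZ).2.2.1 _ h3 _ hw))))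

theorem Ctx.nab_cent (C : Ctx p 2 x) {Q1 Q2 : Subgroup G} (hP : Par 2 x Q1 Q2) {y : G}
    (hy : Pt x Q1 y) (hN : NAb x Q2 y) {h : G} (hh1 : h ∈ Q1) (hh2 : h ∈ nor Q2) {u : G}
    (hu : u ∈ Zb x Q2) : Commute h u := by
  have h1 : h * u * h⁻¹ * u⁻¹ = 1 :=
    C.nab_dh hP.1 hP.2.1 hy hN (C.par_le (C.par_symm hP) hu) (C.zb_sq hP.2.1 hu)
      (fun z hz => (C.par_comm hP hz hu).symm) (Subgroup.mem_sup_left (comm_mem_cm u hh1).1)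
      (mul_mem ((mem_nor.1 (nor_le_nor_zb Q2 hh2) u).1 hu) (inv_mem hu))
  exact mul_inv_eq_iff_eq_mul.1 (mul_inv_eq_one.1 h1)

theorem Ctx.l4 (C : Ctx p 2 x) {Q1 Q2 : Subgroup G} (hP : Par 2 x Q1 Q2) {y' : G}
    (hy' : Pt x Q2 y') (hN : NAb x Q1 y') {h : G} (hh1 : h ∈ Q1) (hh2 : h ∈ nor Q2)
    (hc : ∀ u ∈ Zb x Q2, Commute h u) (hsq : h * h ∈ Q2) : h * h = 1 := by
  by_contra he1
  have he : h * h ∈ Zb x Q1 := C.sq_mem_zb hP.1 hh1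
  have hhe : Commute h (h * h) := (Commute.refl h).mul_right (Commute.refl h)
  have hle : Dh x Q2 h ≤ cen (h * h) := by
    refine sup_le (cm_le_of (Subgroup.le_normalizer (mem_cen.2 hhe)) fun g hg => ?_)
      fun z hz => mem_cen.2 (C.zb_central hP.2.1 hz hsq)
    have h1 := (hc _ (C.comm_mem_zb hP.2.1 (inv_mem hg) hsq)).mul_right hhe
    rw [inv_mul_cancel_right, inv_inv] at h1
    refine mul_mem (mem_cen.2 ?_) (inv_mem (mem_cen.2 hhe))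
    generalize h * h = e at h1
    calc g * h * g⁻¹ * e = g * (h * (g⁻¹ * e * g)) * g⁻¹ := by group
      _ = e * (g * h * g⁻¹) := by rw [h1.eq]; group
  obtain ⟨i, hi⟩ := hN
  exact he1 (hi _ he (C.cen_zb_le hP.1 he he1
    (hle ((mem_nor.1 (pow_mem (C.dh_nor hP.2.1 hh2 hy') i) _).1 (C.dh_sq hP.2.1 hh2 hsq)))))

end Cfsg.Agent.DT
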