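import Cfsg.Agent.DT.L1

set_option autoImplicit false

namespace Cfsg.Agent.DT

variable {G : Type*} [Group G] [Finite G] {p q : ℕ} {x : G}

theorem Ctx.l3 (C : Ctx p 2 x) {Q1 Q2 : Subgroup G} (hP : Par 2 x Q1 Q2) {y y' : G}
    (hy : Pt x Q1 y) (hy' : Pt x Q2 y') (hN1 : NAb x Q2 y) (hN2 : NAb x Q1 y') :
    Zb x Q2 ≤ Q1 := by
  intro u hu
  by_contra huQ
  have h1 : Blk 2 x Q1 := hP.1
  have h2 : Blk 2 x Q2 := hP.2.1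
  have hP' : Par 2 x Q2 Q1 := C.par_symm hP
  have huM : u ∈ nor Q1 := C.par_le hP' hu
  have hu2 : u * u = 1 := C.zb_sq h2 hu
  have hu1 : u ≠ 1 := by
    rintro rfl
    exact huQ Q1.one_mem
  obtain ⟨a, d, hD⟩ := C.dec h1 hy huM hu2
  have ha : a ∈ Q1 := hD.1
  have hz0 : a * a ∈ Zb x Q1 := C.sq_mem_zb h1 ha
  have hz01 : a * a ≠ 1 := C.f5 hP hy hu huQ hD
  have hua : Commute u a := (hD.facts hu2).2.1
  have haM : a ∈ nor Q2 := C.cen_zb_le h2 hu hu1 (mem_cen.2 hua.symm)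
  have haZ : ∀ w ∈ Zb x Q2, Commute a w := fun w hw => C.nab_cent hP hy hN1 ha haM hw
  have hz0Q : a * a ∉ Q2 := fun h => hz01 (C.l4 hP hy' hN2 ha haM haZ h)
  have hz0M : a * a ∈ nor Q2 := C.par_le hP hz0
  have hz02 : (a * a) * (a * a) = 1 := C.zb_sq h1 hz0
  obtain ⟨a2, d2, hD2⟩ := C.dec h2 hy' hz0M hz02
  have ha2 : a2 ∈ Q2 := hD2.1
  have ha21 : a2 * a2 ≠ 1 := C.f5 hP' hy' hz0 hz0Q hD2
  have hex : ∃ j : ℕ, ¬ Commute a2 (y' ^ j * a2 * (y' ^ j)⁻¹) := by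
    by_contra hne
    push Not at hne
    exact ha21 (C.sq_one h2 hy' ha2 hne)
  obtain ⟨j, hj⟩ := hex
  have hdh := C.dh_c0a h2 haM hy' ha2 hD2.2.2.1 hD2.2.2.2.1 j
  have hdg : Commute d2 (y' ^ j * a2 * (y' ^ j)⁻¹) := hD2.2.2.2.2 j
  have hgQ : y' ^ j * a2 * (y' ^ j)⁻¹ ∈ Q2 :=
    (mem_nor.1 ((nor Q2).pow_mem hy'.2 j) a2).1 ha2
  have hz0e : a * a = a2 * d2 := hD2.2.2.2.1
  generalize y' ^ j * a2 * (y' ^ j)⁻¹ = g at hj hdh hdg hgQ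
  have hζ : g * a2 * g⁻¹ * a2⁻¹ ∈ Zb x Q2 := C.comm_mem_zb h2 hgQ ha2
  have hζ1 : g * a2 * g⁻¹ * a2⁻¹ ≠ 1 := by
    intro h
    apply hj
    have : g * a2 = a2 * g := by
      calc g * a2 = (g * a2 * g⁻¹ * a2⁻¹) * (a2 * g) := by group
        _ = a2 * g := by rw [h, one_mul]
    exact this.symm
  have hgz : g * (a * a) * g⁻¹ = (g * a2 * g⁻¹ * a2⁻¹) * (a * a) := by
    rw [hz0e]
    have e : d2 * g⁻¹ = g⁻¹ * d2 := (hdg.inv_right).eq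
    calc g * (a2 * d2) * g⁻¹ = g * a2 * (d2 * g⁻¹) := by group
      _ = g * a2 * (g⁻¹ * d2) := by rw [e]
      _ = _ := by group
  generalize g * a2 * g⁻¹ * a2⁻¹ = ζ at hζ hζ1 hgz
  have hz0Z : ∀ w ∈ Zb x Q2, Commute (a * a) w := fun w hw => C.par_comm hP hz0 hw
  have hsq : (a⁻¹ * g * a * g⁻¹) * (a⁻¹ * g * a * g⁻¹) = 1 :=
    (C.ts h2 hz0M hz02 hz0Z).2.2.2 _ hdh
  have ha'Q : a⁻¹ * g * a * g⁻¹ ∈ Q2 := C.dh_le h2 hz0M hdh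
  have hgζ : Commute g ζ := (C.zb_central h2 hζ hgQ).symm
  have haζ : Commute a ζ := haZ ζ hζ
  -- `g a g⁻¹` commutes with `ζ` and `ζ z0`
  have hb1 : Commute (g * a * g⁻¹) ζ := (hgζ.mul_left haζ).mul_left hgζ.inv_left
  have hb2 : Commute (g * a * g⁻¹) (ζ * (a * a)) := by
    rw [← hgz]
    show g * a * g⁻¹ * (g * (a * a) * g⁻¹) = g * (a * a) * g⁻¹ * (g * a * g⁻¹)
    group
  have hb3 : Commute (g * a * g⁻¹) (a * a) := by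
    have := hb1.inv_right.mul_right hb2
    rwa [inv_mul_cancel_left] at this
  have hb4 : Commute (a⁻¹ * g * a * g⁻¹) (a * a) := by
    have e : a⁻¹ * g * a * g⁻¹ = a⁻¹ * (g * a * g⁻¹) := by group
    rw [e]
    exact ((Commute.refl a).mul_right (Commute.refl a)).inv_left.mul_left hb3
  have ha'M : a⁻¹ * g * a * g⁻¹ ∈ nor Q1 := C.cen_zb_le h1 hz0 hz01 (mem_cen.2 hb4)
  have ha'Z : ∀ w ∈ Zb x Q1, Commute (a⁻¹ * g * a * g⁻¹) w := fun w hw =>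
    C.nab_cent hP' hy' hN2 ha'Q ha'M hw
  have hprod : a * (a⁻¹ * g * a * g⁻¹) * (a * (a⁻¹ * g * a * g⁻¹)) = ζ * (a * a) := by
    rw [← hgz]; group
  generalize a⁻¹ * g * a * g⁻¹ = b at hsq ha'Q ha'M ha'Z hprod
  have hbi : b⁻¹ = b := inv_eq_of_mul_eq_one_right hsq
  have hmem : a⁻¹ * b⁻¹ * a * b ∈ cm Q1 b := (comm_mem_cm b ha).2.2.2
  have hζe : a⁻¹ * b⁻¹ * a * b = ζ := by
    rw [hbi]
    have e1 : a⁻¹ * b * a * b = a⁻¹ * a⁻¹ * (a * b * (a * b)) := by group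
    have e2 : ζ * (a * a) = (a * a) * ζ := ((haζ.mul_left haζ).eq).symm
    rw [e1, hprod, e2]; group
  rw [hζe] at hmem
  exact hζ1 (C.nab_dh h1 h2 hy hN1 ha'M hsq ha'Z (Subgroup.mem_sup_left hmem) hζ)

end Cfsg.Agent.DT
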