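import Cfsg.Agent.DT.LA1
import Cfsg.Agent.DT.Fr

set_option autoImplicit false

namespace Cfsg.Agent.DT

variable {G : Type*} [Group G] [Finite G] {p q : ℕ} {x : G}

namespace LAAux

theorem cm_mono {A B : Subgroup G} (h : A ≤ B) (y : G) : cm A y ≤ cm B y :=
  Subgroup.commutator_mono h le_rfl

theorem step (C : Ctx p q x) {Q1 Q2 : Subgroup G} (h1 : Blk q x Q1) (h2 : Blk q x Q2)
    (hne : Q1 ≠ Q2) {y : G} (hy1 : Pt x Q1 y) (hy2 : Pt x Q2 y) {z : G} (hz : z ∈ Zb x Q1) (hz1 : z ≠ 1)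
    (hz2 : z ∈ nor Q2) :
    ∃ Q3, Blk q x Q3 ∧ Q1 ≠ Q3 ∧ Pt x Q3 y ∧ z ∈ nor Q3 ∧ Q1 ⊓ Q2 < Q1 ⊓ Q3 := by
  have hE := C.la_sym h1 h2 (C.zb_ne_bot h2) hz hz1 hz2
  obtain ⟨U1, hU1, hU1n, hU1c, hU1L⟩ := C.la1 h1 h2 hne hy1 hy2 hE
  obtain ⟨U2, -, hU2n, hU2c, hU2L⟩ := C.la1 h2 h1 hne.symm hy2 hy1 ⟨z, hz, hz1, hz2⟩
  rw [inf_comm Q2 Q1, sup_comm (Zb x Q2 ⊓ nor Q1)] at hU2L
  set A : Subgroup G := (Q1 ⊓ Q2) ⊔ ((Zb x Q1 ⊓ nor Q2) ⊔ (Zb x Q2 ⊓ nor Q1)) with hA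
  have hzA : z ∈ A := (le_sup_right : _ ≤ A) ((le_sup_left : _ ≤ (Zb x Q1 ⊓ nor Q2) ⊔ (Zb x Q2 ⊓ nor Q1)) ⟨hz, hz2⟩)
  have hAq : IsPGroup q A := by
    have hq : IsPGroup q ((Zb x Q2 ⊓ nor Q1) ⊔ Q1 : Subgroup G) :=
      sup_pgroup (h2.pgroup.to_le (inf_le_left.trans (zb_le x Q2))) h1.pgroup inf_le_right
    refine hq.to_le (sup_le (inf_le_left.trans le_sup_right) (sup_le ?_ le_sup_left))
    exact (inf_le_left.trans (zb_le x Q1)).trans le_sup_right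
  have hA1 : A ≠ ⊥ := fun e => hz1 (Subgroup.mem_bot.1 (e ▸ hzA))
  have hyW : y ∈ nor (Q1 ⊓ Q2) := nor_inf_le_nor_inf Q1 Q2 ⟨hy1.2, hy2.2⟩
  have hyA : y ∈ nor A :=
    nor_inf_le_nor_sup _ _ ⟨hyW, nor_inf_le_nor_sup _ _
      ⟨nor_inf_le_nor_inf _ _ ⟨nor_le_nor_zb Q1 hy1.2, nor_le_nor_nor Q2 hy2.2⟩,
        nor_inf_le_nor_inf _ _ ⟨nor_le_nor_zb Q2 hy2.2, nor_le_nor_nor Q1 hy1.2⟩⟩⟩
  have hL : nor A ≠ ⊤ := C.nor_ne_top hAq hA1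
  have hθ : IsPGroup q (cm (nor A) y) := C.loc _ y hL hyA hy1.1
  have hθL : cm (nor A) y ≤ nor A := cm_le (nor_le_nor_nor A hyA)
  have hR : IsPGroup q (cm (nor A) y ⊔ A : Subgroup G) := sup_pgroup hθ hAq hθL
  have hyR : y ∈ nor (cm (nor A) y ⊔ A) := nor_inf_le_nor_sup _ _ ⟨mem_nor_cm _ y, hyA⟩
  have hU : ∀ U : Subgroup G, cm U y = U → U ≤ nor A → U ≤ cm (cm (nor A) y ⊔ A) y := by
    intro U hc hl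
    have : U ≤ cm (nor A) y ⊔ A := (hc.ge.trans (cm_mono hl y)).trans le_sup_left
    exact hc.ge.trans (cm_mono this y)
  have hne' : cm (cm (nor A) y ⊔ A) y ≠ ⊥ := by
    intro e
    have := hU U1 hU1c hU1L
    rw [e] at this
    exact hU1n (this.trans bot_le)
  obtain ⟨Q3, h3, hy3, hR3, hc3⟩ := C.blk_of hy1.1 hR hyR hne'
  have hW : Q1 ⊓ Q2 ≤ Q3 := by
    intro r hr
    have hyp : y ^ p = 1 := by rw [← C.ord_pt hy1.1]; exact pow_orderOf_eq_one y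
    obtain ⟨a, ha, c, hc, hcy, e⟩ := cop_decomp C.pp C.qp C.pq (h1.pgroup.to_le inf_le_left) hyp hyW hr
    have hc1 : c = 1 := C.inf_zb h1 h2 hne hy1 hy2 ((C.zb_iff h1 hy1).2 ⟨hc.1, hcy⟩) hc.2
    rw [e, hc1, mul_one]
    exact hc3 (cm_mono (le_sup_left.trans le_sup_right : Q1 ⊓ Q2 ≤ cm (nor A) y ⊔ A) y ha)
  refine ⟨Q3, h3, fun e => hU2n (e ▸ (hU U2 hU2c hU2L).trans hc3), hy3,
    hR3 ((le_sup_right : A ≤ cm (nor A) y ⊔ A) hzA), lt_of_le_of_ne (le_inf inf_le_left hW) fun e => hU1n ?_⟩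
  have : U1 ≤ Q1 ⊓ Q3 := le_inf hU1 ((hU U1 hU1c hU1L).trans hc3)
  rw [← e] at this
  exact this.trans inf_le_right

end LAAux

theorem Ctx.la (C : Ctx p q x) {Q1 Q2 : Subgroup G} (h1 : Blk q x Q1) (h2 : Blk q x Q2)
    (hne : Q1 ≠ Q2) {y : G} (hy1 : Pt x Q1 y) (hy2 : Pt x Q2 y) {z : G} (hz : z ∈ Zb x Q1)
    (hz2 : z ∈ nor Q2) : z = 1 := by
  by_contra hz1
  obtain ⟨W, ⟨Q, hQ, hneQ, hyQ, hzQ, rfl⟩, hmax⟩ := WellFounded.has_min (wellFounded_gt (α := Subgroup G))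
    {W : Subgroup G | ∃ Q, Blk q x Q ∧ Q1 ≠ Q ∧ Pt x Q y ∧ z ∈ nor Q ∧ W = Q1 ⊓ Q}
    ⟨Q1 ⊓ Q2, Q2, h2, hne, hy2, hz2, rfl⟩
  obtain ⟨Q3, h3, hne3, hy3, hz3, hlt⟩ := LAAux.step C h1 hQ hneQ hy1 hyQ hz hz1 hzQ
  exact hmax (Q1 ⊓ Q3) ⟨Q3, h3, hne3, hy3, hz3, rfl⟩ hlt

end Cfsg.Agent.DT
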