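import Cfsg.Agent.DT.Cop
import Cfsg.Agent.DT.Cop2

set_option autoImplicit false

namespace Cfsg.Agent.DT

variable {G : Type*} [Group G] [Finite G] {p q : ℕ} {x : G}

namespace LocAux

omit [Finite G] in
theorem cop_of_pow (hp : p.Prime) (hq : q.Prime) (hpq : p ≠ q) {t : G} {k : ℕ} (h : t ^ q ^ k = 1) :
    (orderOf t).Coprime p :=
  (((Nat.coprime_primes hq hp).2 hpq.symm).pow_left k).coprime_dvd_left (orderOf_dvd_of_pow_eq_one h)

theorem mem_of_pow (hp : p.Prime) (hq : q.Prime) (hpq : p ≠ q) {R H : Subgroup G} (hR : IsPGroup q R) {w : G}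
    (hw : w ∈ R) (h : w ^ p ∈ H) : w ∈ H := by
  obtain ⟨k, hk⟩ := hR ⟨w, hw⟩
  have e : w ^ q ^ k = 1 := by simpa using congrArg Subtype.val hk
  exact Subgroup.zpowers_le.2 h (mem_zpowers_pow_iff.2 (cop_of_pow hp hq hpq e).symm)

end LocAux

open LocAux

theorem h1_conj {y : G} (h : H1 q x) (hy : IsConj x y) : H1 q y := by
  intro y' hy'
  obtain ⟨g, rfl⟩ := isConj_iff.1 hy
  obtain ⟨R, h1, h2, h3⟩ := h (g⁻¹ * y' * g) ((hy.trans hy').trans (isConj_iff.2 ⟨g⁻¹, by simp⟩))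
  refine ⟨cj g R, h1.map _, ?_, mem_cj.2 ?_⟩
  · rw [nor_cj, mem_cj]
    simpa [mul_assoc] using h2
  · simpa [mul_assoc] using h3

theorem h2_conj {y : G} (h : H2 q x) (hy : IsConj x y) : H2 q y := by
  obtain ⟨g, rfl⟩ := isConj_iff.1 hy.symm
  intro R hR hn a ha
  have inj := (MulAut.conj g).injective
  have m : ∀ b ∈ cm R y, MulAut.conj g b ∈ cm (cj g R) (g * y * g⁻¹) := fun b hb => by
    rw [← cj_cm]
    exact ⟨b, hb, rfl⟩
  obtain ⟨h1, h2, h3⟩ := h (cj g R) (hR.map _) (by rw [nor_cj]; exact ⟨y, hn, rfl⟩) _ (m a ha)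
  refine ⟨Commute.of_map inj ?_, fun b hb => Commute.of_map inj ?_, fun e b hb => Commute.of_map inj ?_⟩
  · rw [map_pow]
    exact h1
  · rw [map_mul, map_mul, map_mul, map_inv, map_inv]
    exact h2 _ (m b hb)
  · exact h3 (e.map (MulAut.conj g)) _ (m b hb)

theorem Ctx.ord_pt (C : Ctx p q x) {y : G} (hy : IsConj x y) : orderOf y = p := by
  obtain ⟨g, rfl⟩ := isConj_iff.1 hy
  exact ((MulAut.conj g).orderOf_eq x).trans C.ord

theorem LocAux.pw (C : Ctx p q x) {y : G} (hy : IsConj x y) : y ^ p = 1 :=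
  C.ord_pt hy ▸ pow_orderOf_eq_one y

theorem Ctx.comm_pts (C : Ctx p q x) {y y' : G} (hy : IsConj x y) (hy' : IsConj x y')
    (h : Commute y y') : y = y' := by
  obtain ⟨R, h1, -, h3⟩ := h1_conj C.h1 hy y' (hy.symm.trans hy')
  have : y⁻¹ * y' ∈ (⊥ : Subgroup G) := mem_of_pow C.pp C.qp C.pq h1 h3 (by
    rw [h.inv_left.mul_pow, inv_pow, pw C hy, pw C hy']
    simp)
  exact inv_mul_eq_one.1 (Subgroup.mem_bot.1 this)

theorem Ctx.nor_ne_top (C : Ctx p q x) {R : Subgroup G} (hR : IsPGroup q R) (h : R ≠ ⊥) :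
    nor R ≠ ⊤ := fun e => by
  haveI : Fact q.Prime := ⟨C.qp⟩
  obtain ⟨k, hk⟩ := IsPGroup.iff_card.1 hR
  exact h (C.opp R (Subgroup.normalizer_eq_top_iff.1 e)
    (hk ▸ ((Nat.coprime_primes C.qp C.pp).2 C.pq.symm).pow_left k))

theorem Ctx.cen_ne_top (C : Ctx p q x) {t : G} (ht : t ≠ 1) (h : (orderOf t).Coprime p) :
    cen t ≠ ⊤ := fun e => by
  refine ht (Subgroup.zpowers_eq_bot.1 (C.opp _ ⟨?_⟩ (by rwa [Nat.card_zpowers])))
  rintro _ ⟨i, rfl⟩ g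
  have : Commute g t := mem_cen.1 (e ▸ Subgroup.mem_top g)
  exact ⟨i, by simp only [(this.zpow_right i).eq, mul_inv_cancel_right]⟩

theorem Ctx.cen_ne_top' (C : Ctx p q x) {t : G} (ht : t ≠ 1) {k : ℕ} (h : t ^ q ^ k = 1) :
    cen t ≠ ⊤ := C.cen_ne_top ht (cop_of_pow C.pp C.qp C.pq h)

theorem Ctx.loc_decomp (C : Ctx p q x) {L : Subgroup G} (hL : L ≠ ⊤) {y : G} (hy : IsConj x y)
    (hyL : y ∈ L) {g : G} (hg : g ∈ L) : ∃ a ∈ cm L y, ∃ c ∈ L, Commute c y ∧ g = a * c := by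
  obtain ⟨t, ht, e⟩ := cop_conj C.pp C.qp C.pq (C.loc L y hL hyL hy) (pw C hy)
    (pw C (hy.trans (isConj_iff.2 ⟨g, rfl⟩))) (mem_nor_cm L y)
    (by simpa [mul_assoc] using (comm_mem_cm y (inv_mem hg)).2.2.1)
  have ht' : t ∈ cm L y := cm_le (mem_nor_cm L y) ht
  refine ⟨t⁻¹, inv_mem ht', t * g, mul_mem (cm_le (Subgroup.le_normalizer hyL) ht') hg, ?_, by simp⟩
  have : t * g * y = t * (g * y * g⁻¹) * g := by group
  rw [Commute, SemiconjBy, this, e]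
  group

theorem Ctx.loc_pts (C : Ctx p q x) {L : Subgroup G} (hL : L ≠ ⊤) {y y' : G} (hy : IsConj x y)
    (hyL : y ∈ L) (hy' : IsConj x y') (hyL' : y' ∈ L) : ∃ t ∈ cm L y, y' = t⁻¹ * y * t := by
  obtain ⟨R, h1, -, h3⟩ := h1_conj C.h1 hy y' (hy.symm.trans hy')
  haveI : ((cm L y).subgroupOf L).Normal :=
    (Subgroup.normal_subgroupOf_iff_le_normalizer (cm_le (Subgroup.le_normalizer hyL))).2 (le_nor_cm L y)
  let φ := QuotientGroup.mk' ((cm L y).subgroupOf L)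
  have k1 : ∀ a : L, φ a = 1 ↔ (a : G) ∈ cm L y := fun a => QuotientGroup.eq_one_iff a
  have c : Commute (φ ⟨y, hyL⟩) (φ ⟨y', hyL'⟩) := by
    rw [← commutatorElement_eq_one_iff_commute, ← map_commutatorElement, k1]
    exact (comm_mem_cm y hyL').2.1
  have e1 : (⟨y, hyL⟩ : L) ^ p = 1 := Subtype.ext (pw C hy)
  have e2 : (⟨y', hyL'⟩ : L) ^ p = 1 := Subtype.ext (pw C hy')
  have e3 : φ (((⟨y, hyL⟩ : L)⁻¹ * ⟨y', hyL'⟩) ^ p) = 1 := by
    rw [map_pow, map_mul, map_inv, c.inv_left.mul_pow, inv_pow, ← map_pow, ← map_pow, e1, e2]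
    simp
  obtain ⟨t, ht, e⟩ := cop_conj C.pp C.qp C.pq (C.loc L y hL hyL hy) (pw C hy) (pw C hy') (mem_nor_cm L y)
    (mem_of_pow C.pp C.qp C.pq h1 h3 ((k1 _).1 e3))
  exact ⟨t, cm_le (mem_nor_cm L y) ht, e⟩

theorem Ctx.loc_cm_cm (C : Ctx p q x) {L : Subgroup G} (hL : L ≠ ⊤) {y : G} (hy : IsConj x y)
    (hyL : y ∈ L) : cm (cm L y) y = cm L y := by
  refine le_antisymm (cm_le (mem_nor_cm L y)) (cm_le_of (mem_nor_cm _ y) fun g hg => ?_)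
  obtain ⟨a, ha, c, -, hc, rfl⟩ := C.loc_decomp hL hy hyL hg
  have : a * c * y * (a * c)⁻¹ * y⁻¹ = a * y * a⁻¹ * y⁻¹ := by
    rw [mul_assoc a c y, hc.eq]
    group
  rw [this]
  exact (comm_mem_cm y ha).1

theorem Ctx.exists_other (C : Ctx p q x) (y : G) : ∃ y', IsConj x y' ∧ y' ≠ y := by
  by_contra h
  have k : ∀ y', IsConj x y' → y' = y := fun y' hy' => by_contra fun e => h ⟨y', hy', e⟩
  have e : cm (⊤ : Subgroup G) x = ⊥ := cm_eq_bot_iff.2 fun g _ =>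
    mul_inv_eq_iff_eq_mul.1 ((k _ (isConj_iff.2 ⟨g, rfl⟩)).trans (k x (IsConj.refl x)).symm)
  exact C.bad (e ▸ IsPGroup.of_bot)

end Cfsg.Agent.DT
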