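import Cfsg.Agent.DT.Blk2

set_option autoImplicit false

namespace Cfsg.Agent.DT

variable {G : Type*} [Group G] [Finite G] {p q : ℕ} {x : G}

namespace ZBAux

theorem h2q (C : Ctx p q x) {Q : Subgroup G} (h : Blk q x Q) {y : G} (hy : Pt x Q y) :
    ∀ a ∈ Q, Commute (a ^ q) y ∧ (∀ b ∈ Q, Commute (a * b * a⁻¹ * b⁻¹) y) ∧
      (Commute a y → ∀ b ∈ Q, Commute a b) := by
  have := h2_conj C.h2 hy.1 Q h.pgroup hy.2
  rwa [C.blk_cm h hy] at this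

theorem nor_of {H : Subgroup G} {g : G} (h : ∀ a ∈ H, g * a * g⁻¹ ∈ H) : g ∈ nor H :=
  Subgroup.mem_normalizer_fintype (S := (H : Set G)) h

theorem cm_le' {Q H : Subgroup G} {y : G} (hH : H ≤ Q) (h : ∀ a ∈ Q, a * y * a⁻¹ * y⁻¹ ∈ H) :
    cm Q y ≤ H := by
  refine cm_le_of (nor_of fun a ha => ?_) h
  have e : y * a * y⁻¹ = (a * y * a⁻¹ * y⁻¹)⁻¹ * a := by group
  rw [e]
  exact H.mul_mem (H.inv_mem (h a (hH ha))) ha

omit [Finite G] in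
theorem comm_pow {a b : G} (h : Commute (a * b * a⁻¹ * b⁻¹) a) (n : ℕ) :
    (a * b * a⁻¹ * b⁻¹) ^ n = a ^ n * b * (a ^ n)⁻¹ * b⁻¹ := by
  induction n with
  | zero => simp
  | succ n ih =>
    have e : a ^ (n + 1) * b * (a ^ (n + 1))⁻¹ * b⁻¹ =
        a * (a ^ n * b * (a ^ n)⁻¹ * b⁻¹) * a⁻¹ * (a * b * a⁻¹ * b⁻¹) := by
      rw [pow_succ']; group
    rw [e, ← ih, ← (h.pow_left n).eq, mul_inv_cancel_right, pow_succ]

/-- if `Q = [Q, y]` then the elements of `Q` centralising `y` lie in the derived subgroup -/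
theorem mem_commutator {Q : Subgroup G} {y : G} (hy : y ∈ nor Q) (hQ : cm Q y = Q) {z : Q}
    (hz : Commute z.1 y) : z ∈ commutator Q := by
  let α : Q →* Q := ((MulAut.conj y).toMonoidHom.comp Q.subtype).codRestrict Q fun a =>
    (mem_nor.1 hy a).1 a.2
  have hα : ∀ a : Q, (α a : G) = y * a * y⁻¹ := fun a => rfl
  let θ : Abelianization Q →* Abelianization Q := MonoidHom.id _ / Abelianization.map α
  have hθ : ∀ a : Q, θ (Abelianization.of a) = Abelianization.of (a * (α a)⁻¹) := fun a => by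
    rw [map_mul, map_inv, ← div_eq_mul_inv]; rfl
  have hle : cm Q y ≤ (θ.range.comap Abelianization.of).map Q.subtype := by
    refine cm_le' (Subgroup.map_subtype_le _) fun a ha => ⟨⟨a, ha⟩ * (α ⟨a, ha⟩)⁻¹, ⟨_, hθ _⟩, ?_⟩
    rw [Subgroup.coe_subtype, Subgroup.coe_mul, Subgroup.coe_inv, hα]
    group
  have hs : Function.Surjective θ := fun u => by
    obtain ⟨a, rfl⟩ : ∃ a : Q, Abelianization.of a = u := QuotientGroup.mk_surjective u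
    obtain ⟨b, hb, e⟩ := hle (hQ.symm ▸ a.2 : a.1 ∈ cm Q y)
    rw [← show b = a from Subtype.ext e]
    exact hb
  have hi := Finite.injective_iff_surjective.2 hs
  have e : α z = z := Subtype.ext (by rw [hα, ← hz.eq, mul_inv_cancel_right])
  rw [← Abelianization.ker_of, MonoidHom.mem_ker]
  exact hi (by rw [hθ, e, mul_inv_cancel, map_one, map_one])

end ZBAux

open ZBAux

theorem Ctx.zb_iff (C : Ctx p q x) {Q : Subgroup G} (h : Blk q x Q) {y : G} (hy : Pt x Q y) {z : G} :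
    z ∈ Zb x Q ↔ z ∈ Q ∧ Commute z y := by
  rw [mem_zb]
  refine ⟨fun e => ⟨e.1, e.2 y hy⟩, fun e => ⟨e.1, fun y' hy' => ?_⟩⟩
  obtain ⟨t, ht, rfl⟩ := C.blk_pts h hy hy'
  have := (h2q C h hy z e.1).2.2 e.2 t ht
  exact (this.inv_right.mul_right e.2).mul_right this

theorem Ctx.zb_central (C : Ctx p q x) {Q : Subgroup G} (h : Blk q x Q) {z a : G} (hz : z ∈ Zb x Q)
    (ha : a ∈ Q) : Commute z a := by
  obtain ⟨y, hy⟩ := h.exists_pt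
  exact (h2q C h hy z (zb_le x Q hz)).2.2 ((mem_zb.1 hz).2 y hy) a ha

theorem Ctx.comm_mem_zb (C : Ctx p q x) {Q : Subgroup G} (h : Blk q x Q) {a b : G} (ha : a ∈ Q)
    (hb : b ∈ Q) : a * b * a⁻¹ * b⁻¹ ∈ Zb x Q :=
  mem_zb.2 ⟨Q.mul_mem (Q.mul_mem (Q.mul_mem ha hb) (Q.inv_mem ha)) (Q.inv_mem hb),
    fun _ hy => (h2q C h hy a ha).2.1 b hb⟩

theorem Ctx.pow_mem_zb (C : Ctx p q x) {Q : Subgroup G} (h : Blk q x Q) {a : G} (ha : a ∈ Q) :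
    a ^ q ∈ Zb x Q :=
  mem_zb.2 ⟨Q.pow_mem ha q, fun _ hy => (h2q C h hy a ha).1⟩

theorem Ctx.zb_pow (C : Ctx p q x) {Q : Subgroup G} (h : Blk q x Q) {z : G} (hz : z ∈ Zb x Q) :
    z ^ q = 1 := by
  obtain ⟨y, hy⟩ := h.exists_pt
  let Z1 : Subgroup Q :=
    { carrier := {a | a.1 ∈ Zb x Q ∧ a.1 ^ q = 1}
      one_mem' := ⟨(Zb x Q).one_mem, one_pow q⟩
      mul_mem' := fun {a b} ha hb => ⟨(Zb x Q).mul_mem ha.1 hb.1, by
        rw [Subgroup.coe_mul, (C.zb_central h ha.1 b.2).mul_pow, ha.2, hb.2, one_mul]⟩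
      inv_mem' := fun {a} ha => ⟨(Zb x Q).inv_mem ha.1, by rw [Subgroup.coe_inv, inv_pow, ha.2, inv_one]⟩ }
  have hle : commutator Q ≤ Z1 := by
    refine Subgroup.commutator_le.2 fun a _ b _ => ?_
    have h1 := C.comm_mem_zb h a.2 b.2
    refine ⟨h1, ?_⟩
    show (a.1 * b.1 * a.1⁻¹ * b.1⁻¹) ^ q = 1
    rw [comm_pow (C.zb_central h h1 a.2), (C.zb_central h (C.pow_mem_zb h a.2) b.2).eq]
    group
  exact (hle (mem_commutator hy.2 (C.blk_cm h hy) (z := ⟨z, zb_le x Q hz⟩) ((mem_zb.1 hz).2 y hy))).2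

theorem Ctx.zb_ne (C : Ctx p q x) {Q : Subgroup G} (h : Blk q x Q) : Zb x Q ≠ Q := by
  intro e
  obtain ⟨y, hy⟩ := h.exists_pt
  refine h.1 ((C.blk_cm h hy).symm.trans (cm_eq_bot_iff.2 fun a ha => ?_))
  exact (mem_zb.1 (e.symm ▸ ha : a ∈ Zb x Q)).2 y hy

theorem Ctx.le_nor_of_zb_le (C : Ctx p q x) {Q W : Subgroup G} (h : Blk q x Q) (hZ : Zb x Q ≤ W)
    (hW : W ≤ Q) : Q ≤ nor W := by
  refine fun g hg => nor_of fun w hw => ?_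
  have e : g * w * g⁻¹ = g * w * g⁻¹ * w⁻¹ * w := by group
  rw [e]
  exact W.mul_mem (hZ (C.comm_mem_zb h hg (hW hw))) hw

theorem Ctx.cen_le (C : Ctx p q x) {Q : Subgroup G} (h : Blk q x Q) {t : G} (ht : cen t ≠ ⊤)
    (hc : ∀ y, Pt x Q y → Commute t y) : cen t ≤ nor Q := by
  obtain ⟨y, hy⟩ := h.exists_pt
  exact C.b8 h hy ht (C.le_of_pts h fun y hy => mem_cen.2 (hc y hy).symm) (mem_cen.2 (hc y hy).symm)

theorem Ctx.cen_zb_le (C : Ctx p q x) {Q : Subgroup G} (h : Blk q x Q) {z : G} (hz : z ∈ Zb x Q)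
    (hz1 : z ≠ 1) : cen z ≤ nor Q :=
  C.cen_le h (C.cen_ne_top' hz1 (k := 1) (by rw [pow_one]; exact C.zb_pow h hz)) (mem_zb.1 hz).2

theorem Ctx.zb_ti (C : Ctx p q x) {Q1 Q2 : Subgroup G} (h1 : Blk q x Q1) (h2 : Blk q x Q2)
    (hne : Q1 ≠ Q2) {z : G} (hz1 : z ∈ Zb x Q1) (hz2 : z ∈ Zb x Q2) : z = 1 :=
  by_contra fun hz => hne (C.blk_eq_of_pts h1 h2 fun y hy =>
    C.cen_zb_le h2 hz2 hz (mem_cen.2 ((mem_zb.1 hz1).2 y hy).symm))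

theorem Ctx.fpf (C : Ctx p q x) {Q : Subgroup G} (h : Blk q x Q) {y : G} (hy : Pt x Q y) {a : G}
    (ha : a ∈ Q) (hc : y * a * y⁻¹ * a⁻¹ ∈ Zb x Q) : a ∈ Zb x Q := by
  have hn : ∀ b ∈ Q, ∀ z ∈ Zb x Q, b * z * b⁻¹ ∈ Zb x Q := fun b hb z hz => by
    rwa [← (C.zb_central h hz hb).eq, mul_inv_cancel_right]
  let R : Subgroup G :=
    { carrier := {b | b ∈ Q ∧ y * b * y⁻¹ * b⁻¹ ∈ Zb x Q}
      one_mem' := ⟨Q.one_mem, by simpa using (Zb x Q).one_mem⟩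
      mul_mem' := fun {b c} hb hc => ⟨Q.mul_mem hb.1 hc.1, by
        have e : y * (b * c) * y⁻¹ * (b * c)⁻¹ =
            y * b * y⁻¹ * b⁻¹ * (b * (y * c * y⁻¹ * c⁻¹) * b⁻¹) := by group
        rw [e]
        exact (Zb x Q).mul_mem hb.2 (hn b hb.1 _ hc.2)⟩
      inv_mem' := fun {b} hb => ⟨Q.inv_mem hb.1, by
        have e : y * b⁻¹ * y⁻¹ * b⁻¹⁻¹ = b⁻¹ * (y * b * y⁻¹ * b⁻¹)⁻¹ * b⁻¹⁻¹ := by group
        rw [e]
        exact hn _ (Q.inv_mem hb.1) _ ((Zb x Q).inv_mem hb.2)⟩ }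
  have hRQ : R ≤ Q := fun b hb => hb.1
  have hZR : Zb x Q ≤ R := fun z hz => ⟨zb_le x Q hz, by
    rw [← ((mem_zb.1 hz).2 y hy).eq, mul_inv_cancel_right, mul_inv_cancel]
    exact (Zb x Q).one_mem⟩
  have hyR : y ∈ nor R := nor_of fun b hb => by
    have e : y * b * y⁻¹ = y * b * y⁻¹ * b⁻¹ * b := by group
    rw [e]
    exact R.mul_mem (hZR hb.2) hb
  have hcm : cm R y ≤ Zb x Q := cm_le_of (nor_le_nor_zb Q hy.2) fun b hb => by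
    have e : b * y * b⁻¹ * y⁻¹ = (y * b * y⁻¹ * b⁻¹)⁻¹ := by group
    rw [e]
    exact (Zb x Q).inv_mem hb.2
  obtain ⟨a', ha', c, hc', hcy, rfl⟩ := cop_decomp C.pp C.qp C.pq (h.pgroup.to_le hRQ)
    (C.ord_pt hy.1 ▸ pow_orderOf_eq_one y) hyR (r := a) ⟨ha, hc⟩
  exact (Zb x Q).mul_mem (hcm ha') ((C.zb_iff h hy).2 ⟨hRQ hc', hcy⟩)

theorem Ctx.not_le_sup (C : Ctx p q x) {Q1 Q2 : Subgroup G} (h1 : Blk q x Q1) (h2 : Blk q x Q2)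
    (hne : Q1 ≠ Q2) {y : G} (hy1 : Pt x Q1 y) (hy2 : Pt x Q2 y) :
    ¬ Q1 ≤ (Q1 ⊓ Q2) ⊔ Zb x Q1 := by
  intro hle
  refine hne (C.blk_eq_of_le h1 h2 ((C.blk_cm h1 hy1).symm.trans_le (cm_le_of hy2.2 fun a ha => ?_)))
  obtain ⟨w, hw, z, hz, rfl⟩ := (mem_sup_nor (inf_le_left.trans
    (C.le_nor_of_zb_le h1 le_rfl (zb_le x Q1)))).1 (hle ha)
  have e : w * z * y * (w * z)⁻¹ * y⁻¹ = w * (y * w⁻¹ * y⁻¹) := by
    rw [mul_assoc w z y, ((mem_zb.1 hz).2 y hy1).eq]; group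
  rw [e]
  exact Q2.mul_mem hw.2 ((mem_nor.1 hy2.2 _).1 (Q2.inv_mem hw.2))

theorem Ctx.inf_zb (C : Ctx p q x) {Q1 Q2 : Subgroup G} (h1 : Blk q x Q1) (h2 : Blk q x Q2)
    (hne : Q1 ≠ Q2) {y : G} (hy1 : Pt x Q1 y) (hy2 : Pt x Q2 y) {z : G} (hz : z ∈ Zb x Q1)
    (hz2 : z ∈ Q2) : z = 1 :=
  C.zb_ti h1 h2 hne hz ((C.zb_iff h2 hy2).2 ⟨hz2, (mem_zb.1 hz).2 y hy1⟩)

theorem Ctx.inf_comm (C : Ctx p q x) {Q1 Q2 : Subgroup G} (h1 : Blk q x Q1) (h2 : Blk q x Q2)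
    (hne : Q1 ≠ Q2) {y : G} (hy1 : Pt x Q1 y) (hy2 : Pt x Q2 y) {a b : G} (ha : a ∈ Q1 ⊓ Q2)
    (hb : b ∈ Q1 ⊓ Q2) : Commute a b := by
  have := C.zb_ti h1 h2 hne (C.comm_mem_zb h1 ha.1 hb.1) (C.comm_mem_zb h2 ha.2 hb.2)
  rwa [mul_inv_eq_one, mul_inv_eq_iff_eq_mul] at this

end Cfsg.Agent.DT
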